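import Mathlib
import Cfsg.Agent.Lib.Forms.Max.OrthInUnitary

/-!
# Real forms of unitary spaces: setting for the orthogonal subfield groups in small dimension
-/

set_option autoImplicit false
set_option linter.unusedSectionVars false

namespace Cfsg.Agent.Forms.Max.SU4.Orth

open Matrix Cfsg.Agent.Classical.Unitary
open SubfieldUnitary (InM inM_of inM_map)
open OrthInUnitary (Sg0)

variable {F : Type*} [Field F] [Fintype F] {q n : ℕ}

local notation "Idx" => (Fin n)
local notation "Vec" => (Fin n → F)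
local notation "GLn" => GL (Fin n) F
local notation "H" => Cfsg.hermForm n F q
local notation "SUn" => (Cfsg.GU n F q ⊓ Cfsg.Geo.specialLinear (Fin n) F)

/-- a real form of the standard unitary space, odd characteristic -/
structure Data (F : Type*) [Field F] [Fintype F] (q n : ℕ) where
  F₀ : Subfield F
  P : GL (Fin n) F
  hF : Fintype.card F = q ^ 2
  hodd : Odd q
  hcard : Fintype.card F = Nat.card F₀ ^ 2
  hP : Cfsg.Geo.IsFormRationalStructure (Cfsg.hermForm n F q) F₀ 1 P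

variable (D : Data F q n)

/-- a rational vector -/
def rv (a : Idx → D.F₀) : Vec := OrthInUnitary.rv D.F₀ D.P a

theorem rv_add (a b : Idx → D.F₀) : rv D (a + b) = rv D a + rv D b := OrthInUnitary.rv_add _ _ a b

theorem rv_smul (t : D.F₀) (a : Idx → D.F₀) : rv D (t • a) = (t : F) • rv D a := OrthInUnitary.rv_smul _ _ t a

theorem rv_zero : rv D (0 : Idx → D.F₀) = 0 := OrthInUnitary.rv_zero _ _

theorem rv_eq_zero {a : Idx → D.F₀} (h : rv D a = 0) : a = 0 := OrthInUnitary.rv_eq_zero _ _ h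

theorem rv_sub (a b : Idx → D.F₀) : rv D (a - b) = rv D a - rv D b := by
  rw [eq_sub_iff_add_eq, ← rv_add, sub_add_cancel]

theorem rv_neg (a : Idx → D.F₀) : rv D (-a) = -rv D a := by
  rw [← zero_sub, rv_sub, rv_zero, zero_sub]

theorem fix_iff (x : F) : x ∈ D.F₀ ↔ x ^ q = x := OrthInUnitary.mem_iff_fixed D.hF D.hcard x

theorem pow_q_coe (t : D.F₀) : (t : F) ^ q = t := (fix_iff D _).1 t.2

theorem card_F₀ [Fintype D.F₀] : Fintype.card D.F₀ = q := by
  rw [← Nat.card_eq_fintype_card]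
  exact Nat.pow_left_injective two_ne_zero (by
    show Nat.card D.F₀ ^ 2 = q ^ 2
    rw [← D.hcard, D.hF])

include D in
theorem two_ne : (2 : F) ≠ 0 := OrthInUnitary.two_ne_zero_of_odd D.hF D.hodd

theorem two_ne' : (2 : D.F₀) ≠ 0 := fun e => two_ne D (by simpa [map_ofNat] using congrArg D.F₀.subtype e)

theorem ringChar_ne_two : ringChar D.F₀ ≠ 2 := fun h => two_ne' D (by
  haveI : CharP D.F₀ 2 := h ▸ ringChar.charP D.F₀
  exact CharTwo.two_eq_zero)

theorem odd_card [Fintype D.F₀] : Fintype.card D.F₀ % 2 = 1 :=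
  FiniteField.odd_card_of_char_ne_two (ringChar_ne_two D)

theorem exists_theta : ∃ θ : F, θ ≠ 0 ∧ θ ^ q = -θ ∧ θ ∉ D.F₀ := by
  obtain ⟨θ₀, hθ₀⟩ : ∃ θ : F, θ ∉ D.F₀ := by
    by_contra hc
    push Not at hc
    exact HermStd.qHom_ne_id D.hF (RingHom.ext fun x => (fix_iff D x).1 (hc x))
  set θ := θ₀ - θ₀ ^ q with hθdef
  have hθq : θ ^ q = -θ := by
    rw [hθdef, ← HermStd.qHom_apply D.hF, ← HermStd.qHom_apply D.hF, map_sub, HermStd.qHom_qHom]
    ring
  have hθ0 : θ ≠ 0 := sub_ne_zero.2 fun e => hθ₀ ((fix_iff D _).2 e.symm)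
  refine ⟨θ, hθ0, hθq, fun h => hθ0 ?_⟩
  have h1 : (2 : F) * θ = 0 := by linear_combination hθq - (fix_iff D θ).1 h
  exact (mul_eq_zero.1 h1).resolve_left (two_ne D)

/-- a chosen skew element -/
noncomputable def th : F := (exists_theta D).choose

theorem th_ne : th D ≠ 0 := (exists_theta D).choose_spec.1
theorem th_q : th D ^ q = -th D := (exists_theta D).choose_spec.2.1
theorem th_not_mem : th D ∉ D.F₀ := (exists_theta D).choose_spec.2.2
theorem th_skew : th D + th D ^ q = 0 := by rw [th_q, add_neg_cancel]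

theorem th_sq_mem : th D * th D ∈ D.F₀ := by rw [fix_iff, mul_pow, th_q, neg_mul_neg]

theorem split (k : F) : ∃ k₀ k₁ : D.F₀, k = (k₀ : F) + th D * k₁ := by
  have h2 := two_ne D
  have h0 : (k + k ^ q) / 2 ∈ D.F₀ := by
    rw [fix_iff, ← HermStd.qHom_apply D.hF, map_div₀, map_add, map_ofNat, HermStd.qHom_apply,
      HermStd.qHom_apply, pow_qq D.hF, add_comm]
  have h1 : (k - k ^ q) / (2 * th D) ∈ D.F₀ := by
    rw [fix_iff, ← HermStd.qHom_apply D.hF, map_div₀, map_sub, map_mul, map_ofNat, HermStd.qHom_apply,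
      HermStd.qHom_apply, HermStd.qHom_apply, pow_qq D.hF, th_q, mul_neg, div_neg, ← neg_div, neg_sub]
  refine ⟨⟨_, h0⟩, ⟨_, h1⟩, ?_⟩
  show k = _
  field_simp [th_ne D]
  ring

theorem split_eq_zero {k₀ k₁ : D.F₀} (h : (k₀ : F) + th D * k₁ = 0) : k₀ = 0 ∧ k₁ = 0 := by
  have hk1 : k₁ = 0 := by
    by_contra h1
    refine th_not_mem D ?_
    rw [show th D = -(k₀ : F) / k₁ by
      rw [eq_div_iff fun e => h1 (Subtype.ext e)]; linear_combination h]
    exact D.F₀.div_mem (neg_mem k₀.2) k₁.2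
  subst hk1
  exact ⟨Subtype.ext (by simpa using h), rfl⟩

theorem hrat (a b : Idx → D.F₀) : H (rv D a) (rv D b) ∈ D.F₀ := by
  have h := D.hP _ _ (fun i => (a i).2) (fun i => (b i).2)
  rw [one_mul] at h
  exact h

/-- the rational symmetric form -/
def B : LinearMap.BilinForm D.F₀ (Idx → D.F₀) :=
  LinearMap.mk₂ D.F₀ (fun a b => (⟨H (rv D a) (rv D b), hrat D a b⟩ : D.F₀))
    (fun a a' b => Subtype.ext (by simp [rv_add, H_add_left]))
    (fun t a b => Subtype.ext (by simp [rv_smul, H_smul_left]))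
    (fun a b b' => Subtype.ext (by simp [rv_add, H_add_right D.hF]))
    (fun t a b => Subtype.ext (by simp [rv_smul, H_smul_right, pow_q_coe]))

theorem hB (a b : Idx → D.F₀) : H (rv D a) (rv D b) = ((B D a b : D.F₀) : F) := rfl

theorem swap (a b : Idx → D.F₀) : B D b a = B D a b := Subtype.ext (by
  rw [← hB, ← hB, ← H_conj D.hF, hB, pow_q_coe])

theorem refl' : (B D).IsRefl := fun a b h => by rw [swap, h]

theorem hH0 {a : Idx → D.F₀} (h : B D a a = 0) : H (rv D a) (rv D a) = 0 := by rw [hB, h]; rfl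

theorem dec (v : Vec) : ∃ a b : Idx → D.F₀, v = rv D a + th D • rv D b := by
  set w := ((D.P⁻¹ : GLn) : Matrix Idx Idx F) *ᵥ v
  choose x y hxy using fun i => split D (w i)
  refine ⟨x, y, ?_⟩
  rw [← Max.mulVec_inv_cancel D.P v, rv, rv, OrthInUnitary.rv, OrthInUnitary.rv, ← mulVec_smul, ← mulVec_add]
  congr 1
  funext i
  simp only [SubfieldLinear.ic, Pi.add_apply, Pi.smul_apply, smul_eq_mul]
  exact hxy i

theorem rat_ext {v : Vec} (h : ∀ a, H v (rv D a) = 0) : v = 0 := eq_zero_of_H D.hF fun y => by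
  obtain ⟨a, b, rfl⟩ := dec D y
  rw [H_add_right D.hF, H_smul_right, h, h, mul_zero, add_zero]

theorem nondeg : (B D).Nondegenerate := by
  have hl : ∀ a, (∀ b, B D a b = 0) → a = 0 := fun a h =>
    rv_eq_zero D (rat_ext D fun b => by rw [hB, h b]; rfl)
  exact ⟨hl, fun b h => hl b fun a => by rw [swap D a b, h a]⟩

theorem dual (a : Idx → D.F₀) (S : Submodule D.F₀ (Idx → D.F₀)) (h : a ∉ S) :
    ∃ e, (∀ s ∈ S, B D s e = 0) ∧ B D a e = 1 := by
  obtain ⟨y, hy, hay⟩ := Max.not_mem_perp (nondeg D) (refl' D) h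
  exact ⟨(B D a y)⁻¹ • y, fun s hs => by
    rw [map_smul, LinearMap.BilinForm.mem_orthogonal_iff.1 hy s hs, smul_zero],
    by rw [map_smul, smul_eq_mul, inv_mul_cancel₀ hay]⟩

theorem perp_dim {k : ℕ} (f : Fin k → Idx → D.F₀) :
    n ≤ Module.finrank D.F₀ ↥(LinearMap.ker (LinearMap.pi fun i => B D (f i))) + k := by
  set L := LinearMap.pi fun i => B D (f i)
  have h3 := LinearMap.finrank_range_add_finrank_ker L
  have h4 := Submodule.finrank_le (LinearMap.range L)
  rw [Module.finrank_fintype_fun_eq_card, Fintype.card_fin] at h4 h3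
  omega

theorem exists_perp {k : ℕ} (f : Fin k → Idx → D.F₀) (hk : k < n) :
    ∃ v, v ≠ 0 ∧ ∀ i, B D (f i) v = 0 := by
  obtain ⟨v, hv, hv0⟩ := Submodule.exists_mem_ne_zero_of_ne_bot
    (p := LinearMap.ker (LinearMap.pi fun i => B D (f i))) (fun h => by
      have := perp_dim D f; rw [h, finrank_bot] at this; omega)
  exact ⟨v, hv0, fun i => congrFun (LinearMap.mem_ker.1 hv) i⟩

theorem exists_sum_squares {a b c : D.F₀} (ha : a ≠ 0) (hb : b ≠ 0) : ∃ s t : D.F₀, a * s ^ 2 + b * t ^ 2 = c := by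
  haveI := Fintype.ofFinite D.F₀
  obtain ⟨s, t, hst⟩ := FiniteField.exists_root_sum_quadratic
    (f := Polynomial.C a * Polynomial.X ^ 2 + Polynomial.C (-c))
    (g := Polynomial.C b * Polynomial.X ^ 2)
    (by
      rw [Polynomial.degree_add_eq_left_of_degree_lt]
      · exact Polynomial.degree_C_mul_X_pow 2 ha
      · rw [Polynomial.degree_C_mul_X_pow 2 ha]
        exact Polynomial.degree_C_le.trans_lt (by norm_num))
    (Polynomial.degree_C_mul_X_pow 2 hb) (odd_card D)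
  refine ⟨s, t, ?_⟩
  simp at hst
  linear_combination hst

/-- conjugation with respect to the real form -/
def bar (v : Vec) : Vec :=
  (D.P : Matrix Idx Idx F) *ᵥ fun i => (((D.P⁻¹ : GLn) : Matrix Idx Idx F) *ᵥ v) i ^ q

theorem bar_rv_smul (k : F) (a : Idx → D.F₀) : bar D (k • rv D a) = k ^ q • rv D a := by
  rw [bar, rv, OrthInUnitary.rv, mulVec_smul, Max.inv_mulVec_cancel, ← mulVec_smul]
  congr 1
  funext i
  simp only [Pi.smul_apply, smul_eq_mul, SubfieldLinear.ic, mul_pow, pow_q_coe]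

theorem bar_add (v w : Vec) : bar D (v + w) = bar D v + bar D w := by
  rw [bar, bar, bar, ← mulVec_add]
  congr 1
  funext i
  rw [mulVec_add, Pi.add_apply, Pi.add_apply, ← HermStd.qHom_apply D.hF, map_add, HermStd.qHom_apply,
    HermStd.qHom_apply]

theorem bar_smul (k : F) (v : Vec) : bar D (k • v) = k ^ q • bar D v := by
  obtain ⟨a, b, rfl⟩ := dec D v
  rw [smul_add, bar_add, bar_add, smul_smul, bar_rv_smul, bar_rv_smul, bar_rv_smul,
    show rv D a = (1 : F) • rv D a from (one_smul F _).symm, bar_rv_smul, one_pow, one_smul, smul_add, smul_smul,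
    mul_pow]

theorem bar_rv (a : Idx → D.F₀) : bar D (rv D a) = rv D a := by
  conv_lhs => rw [← one_smul F (rv D a)]
  rw [bar_rv_smul, one_pow, one_smul]

theorem bar_dec (a b : Idx → D.F₀) : bar D (rv D a + th D • rv D b) = rv D a - th D • rv D b := by
  rw [bar_add, bar_rv, bar_rv_smul, th_q, neg_smul, sub_eq_add_neg]

/-- the reflection function -/
def rf (r x : Vec) : Vec := x + ((-1 - 1) / Cfsg.hermForm n F q r r * Cfsg.hermForm n F q x r) • r

theorem rf_rv (r a : Idx → D.F₀) :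
    rf (q := q) (rv D r) (rv D a) = rv D (a + ((-1 - 1) / B D r r * B D a r) • r) := by
  rw [rf, rv_add, rv_smul, hB, hB]
  push_cast
  rfl

theorem rf_perp {r x : Vec} (h : H x r = 0) : rf (q := q) r x = x := by
  rw [rf, h, mul_zero, zero_smul, add_zero]

/-- a subgroup containing the rational elements of determinant one -/
structure Ctx (D : Data F q n) (M : Subgroup (GL (Fin n) F)) : Prop where
  hMK : M ≤ Cfsg.GU n F q ⊓ Cfsg.Geo.specialLinear (Fin n) F
  hlow : ∀ g ∈ Cfsg.GU n F q ⊓ Cfsg.Geo.specialLinear (Fin n) F,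
    (∀ a : Fin n → D.F₀, ∃ b : Fin n → D.F₀, (g : Matrix (Fin n) (Fin n) F) *ᵥ rv D a = rv D b) → g ∈ M

variable {D} {M : Subgroup (GL (Fin n) F)} (C : Ctx D M)
include C

theorem Ctx.map_H {g : GLn} (hg : g ∈ M) (u v : Vec) :
    H ((g : Matrix Idx Idx F) *ᵥ u) ((g : Matrix Idx Idx F) *ᵥ v) = H u v := Unitary.SUn_H (C.hMK hg) u v

theorem Ctx.pair (r s : Idx → D.F₀) (hr : B D r r ≠ 0) (hs : B D s s ≠ 0) :
    ∃ g ∈ M, ∀ x, (g : Matrix Idx Idx F) *ᵥ x = rf (q := q) (rv D r) (rf (q := q) (rv D s) x) := by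
  have h0 : ∀ t, B D t t ≠ 0 → H (rv D t) (rv D t) ≠ 0 := fun t ht e =>
    ht (Subtype.ext (by rw [← hB, e]; rfl))
  have hd : (-1 : F) ^ (q + 1) = 1 := (D.hodd.add_one).neg_one_pow
  obtain ⟨g, hg, hgd, hgx⟩ := Unitary.exists_quasi D.hF (h0 r hr) hd
  obtain ⟨k, hk, hkd, hkx⟩ := Unitary.exists_quasi D.hF (h0 s hs) hd
  have e : ∀ x, ((g * k : GLn) : Matrix Idx Idx F) *ᵥ x = rf (q := q) (rv D r) (rf (q := q) (rv D s) x) := fun x => by
    rw [Max.mulVec_mul_GL, hkx, hgx]; rfl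
  refine ⟨g * k, C.hlow _ ⟨mul_mem hg hk, Aschbacher.mem_specialLinear.2 ?_⟩ fun a => ⟨(a + ((-1 - 1) / B D s s * B D a s) • s) +
    ((-1 - 1) / B D r r * B D (a + ((-1 - 1) / B D s s * B D a s) • s) r) • r, ?_⟩, e⟩
  · rw [Units.val_mul, Matrix.det_mul, hgd, hkd]; ring
  · rw [e, rf_rv, rf_rv]

theorem Ctx.sg {a w : Idx → D.F₀} (haa : B D a a = 0) (hwa : B D w a = 0) :
    Sg0 q M (rv D a) (rv D w) := by
  have h2 := two_ne D
  obtain ⟨s, hs, hsx⟩ := Unitary.exists_siegel D.hF (hH0 D haa) (b := rv D w)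
    (by rw [hB, swap, hwa]; rfl) (β := -(H (rv D w) (rv D w) / 2)) (by
      rw [← HermStd.qHom_apply D.hF, map_neg, map_div₀, map_ofNat, HermStd.qHom_apply, Unitary.H_self_pow D.hF]
      field_simp
      ring)
  refine ⟨by rw [hB, hwa]; rfl, s, C.hlow s hs fun x =>
    ⟨x + B D x a • w + (-B D x w + -(B D w w / 2) * B D x a) • a, ?_⟩, hsx⟩
  rw [hsx]
  simp only [rv_add, rv_smul, hB]
  push_cast
  rfl

end Cfsg.Agent.Forms.Max.SU4.Orth
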