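import Mathlib
import Cfsg.Agent.Lib.Forms.Max.SU4.OrthSetup

/-!
# Images of rational singular points without transvections, dimension four
-/

set_option autoImplicit false
set_option linter.unusedSectionVars false

namespace Cfsg.Agent.Forms.Max.SU4.Orth

open Matrix Cfsg.Agent.Classical.Unitary
open SubfieldUnitary (InM inM_of inM_map)
open OrthInUnitary (Sg0 sg0_map sg0_neg sg0_add sg0_comm)

variable {F : Type*} [Field F] [Fintype F] {q : ℕ}

local notation "Idx" => (Fin 4)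
local notation "Vec" => (Fin 4 → F)
local notation "GLn" => GL (Fin 4) F
local notation "H" => Cfsg.hermForm 4 F q
local notation "SUn" => (Cfsg.GU 4 F q ⊓ Cfsg.Geo.specialLinear (Fin 4) F)

variable {D : Data F q 4} {M : Subgroup (GL (Fin 4) F)}

/-- images of rational singular vectors -/
def Img (D : Data F q 4) (M : Subgroup (GL (Fin 4) F)) (v : Vec) : Prop :=
  ∃ g ∈ M, ∃ a, a ≠ 0 ∧ B D a a = 0 ∧ (g : Matrix Idx Idx F) *ᵥ rv D a = v

/-- not on a rational line -/
def Irr (D : Data F q 4) (v : Vec) : Prop := ∀ (l : F) (y : Idx → D.F₀), v ≠ l • rv D y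

/-- no transvection at a rational centre -/
def NoRoot (D : Data F q 4) (M : Subgroup (GL (Fin 4) F)) : Prop :=
  ∀ (a : Idx → D.F₀) (c : F), a ≠ 0 → B D a a = 0 → c + c ^ q = 0 → InM q M (rv D a) c → c = 0

/-- the bilinear self-product -/
def beta (D : Data F q 4) (v : Vec) : F := Cfsg.hermForm 4 F q v (bar D v)

/-- Siegel elements at `v` for all real multiples of `W` -/
def SS (D : Data F q 4) (M : Subgroup (GL (Fin 4) F)) (v W : Vec) : Prop :=
  ∀ t : D.F₀, Sg0 q M v ((t : F) • W)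

theorem skew_sub (hF : Fintype.card F = q ^ 2) (p r : Vec) :
    H p r - H r p + (H p r - H r p) ^ q = 0 := by
  rw [← HermStd.qHom_apply hF, map_sub, HermStd.qHom_apply, HermStd.qHom_apply, H_conj hF, H_conj hF]
  ring

theorem SS.one {v W : Vec} (h : SS D M v W) : Sg0 q M v W := by simpa using h 1

theorem SS.perp {v W : Vec} (h : SS D M v W) : H W v = 0 := h.one.1

theorem SS.smul {v W : Vec} (h : SS D M v W) (t : D.F₀) : SS D M v ((t : F) • W) := fun s => by
  simpa [smul_smul] using h (s * t)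

section ctx

variable (C : Ctx D M) (hN : NoRoot D M) {v : Fin 4 → F} (hv : Img D M v)
include C hN hv

omit hN in
theorem img_iso : H v v = 0 := by
  obtain ⟨g, hg, a, -, haa, rfl⟩ := hv
  rw [C.map_H hg]; exact hH0 D haa

theorem img_noU {c : F} (hc : c + c ^ q = 0) (h : InM q M v c) : c = 0 := by
  have hvv := img_iso C hv
  obtain ⟨g, hg, a, ha, haa, rfl⟩ := hv
  refine hN a c ha haa hc ?_
  have := inM_map D.hF C.hMK (inv_mem hg) hvv hc h
  rwa [Max.inv_mulVec_cancel] at this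

theorem img_real {W W' : Vec} (h : Sg0 q M v W) (h' : Sg0 q M v W') : H W W' = H W' W :=
  sub_eq_zero.1 (img_noU C hN hv (skew_sub D.hF _ _) (sg0_comm D.hF (img_iso C hv) h h'))

theorem SS.add {W W' : Vec} (h : SS D M v W) (h' : SS D M v W') : SS D M v (W + W') := fun t => by
  rw [smul_add]
  exact sg0_add D.hF (img_iso C hv) (two_ne D) (h t) (h' t) (img_real C hN hv (h t) (h' t))

omit hN in
theorem SS.neg {W : Vec} (h : SS D M v W) : SS D M v (-W) := by
  intro t
  have := h (-t)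
  push_cast at this
  rwa [smul_neg, ← neg_smul]

omit hN in
theorem SS.map {W : Vec} (h : SS D M v W) {s : GLn} (hs : s ∈ M) (hsv : (s : Matrix Idx Idx F) *ᵥ v = v) :
    SS D M v ((s : Matrix Idx Idx F) *ᵥ W) := fun t => by
  have := sg0_map D.hF (img_iso C hv) C.hMK (h t) hs
  rwa [hsv, mulVec_smul] at this

omit hN in
theorem exists_W (hirr : Irr D v) {z : Idx → D.F₀} (hz0 : z ≠ 0) : ∃ W, SS D M v W ∧ H W (rv D z) ≠ 0 := by
  obtain ⟨g, hg, a, ha, haa, rfl⟩ := hv
  by_contra hcW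
  push Not at hcW
  obtain ⟨e, -, hae⟩ := dual D a ⊥ (by simpa using ha)
  have hWs : ∀ v, B D v a = 0 → H ((g : Matrix Idx Idx F) *ᵥ rv D v) (rv D z) = 0 := fun v hv =>
    hcW _ fun t => by
      have := sg0_map D.hF (hH0 D haa) C.hMK (C.sg haa (w := t • v) (by simp [hv])) hg
      rwa [rv_smul, mulVec_smul] at this
  set z' := ((g⁻¹ : GLn) : Matrix Idx Idx F) *ᵥ rv D z with hz'
  have hz'v : ∀ v, B D v a = 0 → H (rv D v) z' = 0 := fun v hv => by
    rw [← C.map_H hg, hz', Max.mulVec_inv_cancel]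
    exact hWs v hv
  set l := H z' (rv D e) with hl
  have hea : B D e a = 1 := by rw [swap, hae]
  have hez : z' = l • rv D a := by
    rw [← sub_eq_zero]
    refine rat_ext D fun t => (H_eq_zero_comm D.hF).1 ?_
    have h1 := hz'v (t - B D t a • e) (by
      rw [map_sub, map_smul, LinearMap.sub_apply, LinearMap.smul_apply, hea, smul_eq_mul, mul_one, sub_self])
    have et : rv D (t - B D t a • e) + (B D t a : F) • rv D e = rv D t := by
      rw [← rv_smul, ← rv_add, sub_add_cancel]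
    rw [← et, H_sub_right D.hF, H_add_left, H_smul_left, h1, H_smul_right, H_add_left, H_smul_left, hB, hB,
      hl, H_conj D.hF]
    rw [hea, map_sub, map_smul, LinearMap.sub_apply, LinearMap.smul_apply, hea]
    simp
    ring
  have hzl : rv D z = l • ((g : Matrix Idx Idx F) *ᵥ rv D a) := by
    rw [← mulVec_smul, ← hez, hz', Max.mulVec_inv_cancel]
  rcases eq_or_ne l 0 with h0 | h0
  · exact hz0 (rv_eq_zero D (hzl.trans (by rw [h0, zero_smul])))
  · exact hirr l⁻¹ z (by rw [hzl, inv_smul_smul₀ h0])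

/-- the parts of an irrational image do not span a totally singular plane -/
theorem beta_ne (hirr : Irr D v) : beta D v ≠ 0 := by
  intro hb
  have hvv := img_iso C hv
  obtain ⟨x, y, hxy⟩ := dec D v
  have hθ := th_not_mem D
  have h2 := two_ne D
  have e1 : (B D x x : F) - th D * th D * (B D y y : F) = 0 := by
    have h0 := hvv
    simp only [hxy, H_add_left, H_add_right D.hF, H_smul_left, H_smul_right, hB, th_q, swap D x y] at h0
    linear_combination h0
  have e2 : (B D x x : F) + 2 * th D * (B D x y : F) + th D * th D * (B D y y : F) = 0 := by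
    have h0 := hb
    simp only [beta, hxy, bar_dec, H_sub_right D.hF, H_add_left, H_smul_left, H_smul_right, hB, th_q,
      swap D x y] at h0
    linear_combination h0
  have e3 : (B D x y : F) + th D * (B D y y : F) = 0 := by
    have : (2 * th D) * ((B D x y : F) + th D * (B D y y : F)) = 0 := by linear_combination e2 - e1
    exact (mul_eq_zero.1 this).resolve_left (mul_ne_zero h2 (th_ne D))
  obtain ⟨hxy0, hyy⟩ := split_eq_zero D e3
  have hxx : B D x x = 0 := Subtype.ext (by simpa [hyy] using e1)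
  have hyx : B D y x = 0 := by rw [swap, hxy0]
  have hx0 : x ≠ 0 := fun e => hirr (th D) y (by rw [hxy, e, rv_zero, zero_add])
  obtain ⟨-, s, hs, hsx⟩ := C.sg (a := x) (w := y) hxx hyx
  have hvx : H v (rv D x) = 0 := by rw [hxy, H_add_left, H_smul_left, hB, hB, hxx, hyx]; simp
  have hvy : H v (rv D y) = 0 := by rw [hxy, H_add_left, H_smul_left, hB, hB, hxy0, hyy]; simp
  have hsv : (s : Matrix Idx Idx F) *ᵥ v = v := by rw [hsx, hvx, hvy]; simp
  obtain ⟨W, hW, hWx⟩ := exists_W C hv hirr hx0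
  have hr := img_real C hN hv hW.one ((hW.map C hv hs hsv).one)
  have hWv := hW.perp
  rw [hxy, H_add_right D.hF, H_smul_right, th_q] at hWv
  have h1 : H (rv D x) W = H W (rv D x) ^ q := (H_conj D.hF _ _).symm
  have h3 : H (rv D y) W = H W (rv D y) ^ q := (H_conj D.hF _ _).symm
  rw [hsx] at hr
  simp only [H_add_left, H_add_right D.hF, H_smul_left, H_smul_right, hB D y y, hyy, ZeroMemClass.coe_zero,
    zero_div, neg_zero, zero_mul, add_zero, h1, h3] at hr
  rw [← HermStd.qHom_apply D.hF (-H W (rv D y)), map_neg, HermStd.qHom_apply] at hr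
  have e4 : H W (rv D x) = th D * H W (rv D y) := by linear_combination hWv
  rw [e4] at hr hWx
  rw [mul_pow, th_q] at hr
  have h5 : (4 * th D) * (H W (rv D y) * H W (rv D y) ^ q) = 0 := by linear_combination -hr
  rw [show (4 : F) = 2 * 2 by norm_num] at h5
  rcases mul_eq_zero.1 h5 with h | h
  · exact (mul_ne_zero (mul_ne_zero h2 h2) (th_ne D)) h
  · rcases mul_eq_zero.1 h with h | h
    · exact hWx (by rw [h, mul_zero])
    · exact hWx (by rw [eq_zero_of_pow_eq_zero h, mul_zero])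

end ctx

/-- an orthogonal frame adapted to `v` -/
structure Frame (D : Data F q 4) (v : Vec) where
  x : Idx → D.F₀
  y : Idx → D.F₀
  r1 : Idx → D.F₀
  r2 : Idx → D.F₀
  hv : v = rv D x + th D • rv D y
  hvv : Cfsg.hermForm 4 F q v v = 0
  hb : beta D v ≠ 0
  hdet : B D x x * B D y y - B D x y * B D x y ≠ 0
  hnorm : beta D v ^ q * beta D v =
    4 * (th D * th D) * ((B D x x * B D y y - B D x y * B D x y : D.F₀) : F)
  hx1 : B D x r1 = 0
  hx2 : B D x r2 = 0
  hy1 : B D y r1 = 0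
  hy2 : B D y r2 = 0
  h12 : B D r1 r2 = 0
  ha1 : B D r1 r1 ≠ 0
  ha2 : B D r2 r2 ≠ 0
  hspan : ∀ a, ∃ c : Fin 4 → D.F₀, a = c 0 • x + c 1 • y + c 2 • r1 + c 3 • r2

theorem exists_frame {v : Vec} (hvv : H v v = 0) (hb : beta D v ≠ 0) : Nonempty (Frame D v) := by
  obtain ⟨x, y, hxy⟩ := dec D v
  have e1 : (B D x x : F) - th D * th D * (B D y y : F) = 0 := by
    have h0 := hvv
    simp only [hxy, H_add_left, H_add_right D.hF, H_smul_left, H_smul_right, hB, th_q, swap D x y] at h0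
    linear_combination h0
  have hbv : beta D v = (B D x x : F) + 2 * th D * (B D x y : F) + th D * th D * (B D y y : F) := by
    rw [beta]
    simp only [hxy, bar_dec, H_sub_right D.hF, H_add_left, H_smul_left, H_smul_right, hB, th_q, swap D x y]
    ring
  have hnorm : beta D v ^ q * beta D v =
      4 * (th D * th D) * ((B D x x * B D y y - B D x y * B D x y : D.F₀) : F) := by
    rw [hbv, ← HermStd.qHom_apply D.hF]
    simp only [map_add, map_mul, map_ofNat, HermStd.qHom_apply, pow_q_coe, th_q]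
    push_cast
    linear_combination (((B D x x : F) - th D * th D * (B D y y : F))) * e1
  have hdet : B D x x * B D y y - B D x y * B D x y ≠ 0 := fun h => by
    rw [h, ZeroMemClass.coe_zero, mul_zero] at hnorm
    rcases mul_eq_zero.1 hnorm with h' | h'
    · exact hb (eq_zero_of_pow_eq_zero h')
    · exact hb h'
  have hgram : ∀ s t : D.F₀, B D x (s • x + t • y) = 0 → B D y (s • x + t • y) = 0 → s = 0 ∧ t = 0 := by
    intro s t h1 h2
    simp only [map_add, map_smul, swap D x y, smul_eq_mul] at h1 h2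
    constructor
    · refine (mul_eq_zero.1 ?_).resolve_right hdet
      linear_combination (B D y y) * h1 - (B D x y) * h2
    · refine (mul_eq_zero.1 ?_).resolve_right hdet
      linear_combination (B D x x) * h2 - (B D x y) * h1
  obtain ⟨r, hr0, hr⟩ := exists_perp D ![x, y] (by norm_num)
  have hxr : B D x r = 0 := hr 0
  have hyr : B D y r = 0 := hr 1
  obtain ⟨r1, hx1, hy1, ha1⟩ : ∃ r1, B D x r1 = 0 ∧ B D y r1 = 0 ∧ B D r1 r1 ≠ 0 := by
    by_cases hrr : B D r r = 0
    swap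
    · exact ⟨r, hxr, hyr, hrr⟩
    obtain ⟨e, he, hre⟩ := dual D r (Submodule.span D.F₀ ({x, y} : Set (Idx → D.F₀))) fun hm => by
      obtain ⟨s, t, rfl⟩ := Submodule.mem_span_pair.1 hm
      obtain ⟨rfl, rfl⟩ := hgram s t hxr hyr
      simp at hr0
    have hxe := he x (Submodule.subset_span (by simp))
    have hye := he y (Submodule.subset_span (by simp))
    by_cases hee : B D e e = 0
    swap
    · exact ⟨e, hxe, hye, hee⟩
    refine ⟨r + e, by rw [map_add, hxr, hxe, add_zero], by rw [map_add, hyr, hye, add_zero], ?_⟩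
    simp only [map_add, LinearMap.add_apply, hrr, hee, swap D r e, hre, zero_add, add_zero]
    rw [one_add_one_eq_two]
    exact two_ne' D
  obtain ⟨r2, hr20, hr2⟩ := exists_perp D ![x, y, r1] (by norm_num)
  have hx2 : B D x r2 = 0 := hr2 0
  have hy2 : B D y r2 = 0 := hr2 1
  have h12 : B D r1 r2 = 0 := hr2 2
  have hli : LinearIndependent D.F₀ ![x, y, r1, r2] := by
    rw [Fintype.linearIndependent_iff]
    intro c hc
    simp [Fin.sum_univ_four] at hc
    have e1 := congrArg (B D x) hc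
    have e2 := congrArg (B D y) hc
    have e3 := congrArg (B D r1) hc
    simp [map_add, map_smul, hx1, hy1, hx2, hy2, h12, refl' D x r1 hx1, refl' D y r1 hy1] at e1 e2 e3
    obtain ⟨h0, h1⟩ := hgram (c 0) (c 1) (by simpa [map_add, map_smul] using e1)
      (by simpa [map_add, map_smul] using e2)
    have h2 : c 2 = 0 := e3.resolve_right ha1
    rw [h0, h1, h2, zero_smul, zero_smul, zero_smul, zero_add, zero_add, zero_add, smul_eq_zero] at hc
    intro i
    fin_cases i
    · exact h0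
    · exact h1
    · exact h2
    · exact hc.resolve_right hr20
  have hspan : ∀ a, ∃ c : Fin 4 → D.F₀, a = c 0 • x + c 1 • y + c 2 • r1 + c 3 • r2 := fun a => by
    have htop := hli.span_eq_top_of_card_eq_finrank (by simp [Module.finrank_fintype_fun_eq_card])
    obtain ⟨c, hc⟩ := (Submodule.mem_span_range_iff_exists_fun D.F₀).1 (htop ▸ Submodule.mem_top (x := a))
    refine ⟨c, ?_⟩
    rw [← hc]
    simp [Fin.sum_univ_four]
  have ha2 : B D r2 r2 ≠ 0 := fun h => hr20 ((nondeg D).1 r2 fun a => by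
    obtain ⟨c, rfl⟩ := hspan a
    simp [map_add, map_smul, refl' D x r2 hx2, refl' D y r2 hy2, refl' D r1 r2 h12, h])
  exact ⟨⟨x, y, r1, r2, hxy, hvv, hb, hdet, hnorm, hx1, hx2, hy1, hy2, h12, ha1, ha2, hspan⟩⟩

namespace Frame

variable {v : Fin 4 → F} (f : Frame D v)

theorem hvr {r : Idx → D.F₀} (hx : B D f.x r = 0) (hy : B D f.y r = 0) : H v (rv D r) = 0 := by
  conv_lhs => rw [f.hv]
  rw [H_add_left, H_smul_left, hB, hB, hx, hy]
  simp

theorem ne1 : ((B D f.r1 f.r1 : D.F₀) : F) ≠ 0 := fun e => f.ha1 (Subtype.ext e)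

theorem ne2 : ((B D f.r2 f.r2 : D.F₀) : F) ≠ 0 := fun e => f.ha2 (Subtype.ext e)

/-- the first coordinate -/
def k1 (W : Vec) : F := Cfsg.hermForm 4 F q W (rv D f.r1) / ((B D f.r1 f.r1 : D.F₀) : F)

/-- the second coordinate -/
def k2 (W : Vec) : F := Cfsg.hermForm 4 F q W (rv D f.r2) / ((B D f.r2 f.r2 : D.F₀) : F)

theorem expand {W : Vec} (h : H W v = 0) : ∃ c : F, W = c • v + f.k1 W • rv D f.r1 + f.k2 W • rv D f.r2 := by
  refine ⟨H W (bar D v) / beta D v, sub_eq_zero.1 (rat_ext D fun a => ?_)⟩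
  set Z := W - ((H W (bar D v) / beta D v) • v + f.k1 W • rv D f.r1 + f.k2 W • rv D f.r2) with hZ
  have hv1 : H (rv D f.r1) v = 0 := (H_eq_zero_comm D.hF).1 (f.hvr f.hx1 f.hy1)
  have hv2 : H (rv D f.r2) v = 0 := (H_eq_zero_comm D.hF).1 (f.hvr f.hx2 f.hy2)
  have hbar : bar D v = rv D f.x - th D • rv D f.y := (congrArg (bar D) f.hv).trans (bar_dec D _ _)
  have hb1 : H (rv D f.r1) (bar D v) = 0 := by
    rw [hbar, H_sub_right D.hF, H_smul_right, hB, hB, refl' D _ _ f.hx1, refl' D _ _ f.hy1]; simp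
  have hb2 : H (rv D f.r2) (bar D v) = 0 := by
    rw [hbar, H_sub_right D.hF, H_smul_right, hB, hB, refl' D _ _ f.hx2, refl' D _ _ f.hy2]; simp
  have Z1 : H Z v = 0 := by
    simp only [hZ, H_sub_left, H_add_left, H_smul_left, h, f.hvv, hv1, hv2]; ring
  have Z2 : H Z (bar D v) = 0 := by
    simp only [hZ, H_sub_left, H_add_left, H_smul_left, hb1, hb2]
    rw [← beta, div_mul_cancel₀ _ f.hb]; ring
  have h12' : H (rv D f.r1) (rv D f.r2) = 0 := by rw [hB, f.h12]; rfl
  have h21' : H (rv D f.r2) (rv D f.r1) = 0 := by rw [hB, refl' D _ _ f.h12]; rfl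
  have Z3 : H Z (rv D f.r1) = 0 := by
    simp only [hZ, H_sub_left, H_add_left, H_smul_left, f.hvr f.hx1 f.hy1, h21', Frame.k1, hB D f.r1 f.r1]
    field_simp [f.ne1]
    ring
  have Z4 : H Z (rv D f.r2) = 0 := by
    simp only [hZ, H_sub_left, H_add_left, H_smul_left, f.hvr f.hx2 f.hy2, h12', Frame.k2, hB D f.r2 f.r2]
    field_simp [f.ne2]
    ring
  have hx : H Z (rv D f.x) = 0 ∧ H Z (rv D f.y) = 0 := by
    have e1 := Z1
    have e2 := Z2
    rw [show H Z v = H Z (rv D f.x + th D • rv D f.y) from congrArg (H Z) f.hv, H_add_right D.hF, H_smul_right, th_q] at e1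
    rw [hbar, H_sub_right D.hF, H_smul_right, th_q] at e2
    have h2 := two_ne D
    constructor
    · exact (mul_eq_zero.1 (show (2 : F) * H Z (rv D f.x) = 0 by linear_combination e1 + e2)).resolve_left h2
    · exact (mul_eq_zero.1 (show (2 * th D) * H Z (rv D f.y) = 0 by linear_combination e2 - e1)).resolve_left
        (mul_ne_zero h2 (th_ne D))
  obtain ⟨c, rfl⟩ := f.hspan a
  simp [rv_add, rv_smul, H_add_right D.hF, H_smul_right, hx.1, hx.2, Z3, Z4]

variable (C : Ctx D M) (hN : NoRoot D M) (hv : Img D M v) (h5 : 5 ≤ q)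
include C

include h5 in
theorem torus : ∃ s ∈ M, ∃ A Bc Cc : F, A ^ q = A ∧ Bc ^ q = Bc ∧ Cc ^ q = Cc ∧ Bc ≠ 0 ∧
    Cc * (B D f.r1 f.r1 : F) = -(Bc * (B D f.r2 f.r2 : F)) ∧
    (s : Matrix Idx Idx F) *ᵥ v = v ∧
    (s : Matrix Idx Idx F) *ᵥ rv D f.r1 = A • rv D f.r1 + Bc • rv D f.r2 ∧
    (s : Matrix Idx Idx F) *ᵥ rv D f.r2 = Cc • rv D f.r1 + A • rv D f.r2 := by
  classical
  haveI := Fintype.ofFinite D.F₀
  set a1 := B D f.r1 f.r1
  set a2 := B D f.r2 f.r2
  obtain ⟨t, ht0, htN⟩ : ∃ t : D.F₀, t ≠ 0 ∧ a1 + t ^ 2 * a2 ≠ 0 := by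
    by_contra hc
    push Not at hc
    let Pl : Polynomial D.F₀ := Polynomial.C a2 * Polynomial.X ^ 2 + Polynomial.C a1
    have hdeg : Pl.natDegree ≤ 2 := Polynomial.natDegree_le_iff_coeff_eq_zero.2 fun m hm => by
      simp [Pl, Polynomial.coeff_C, show m ≠ 2 by omega, show m ≠ 0 by omega]
    have hne : Pl ≠ 0 := fun h => f.ha2 (by
      have := congrArg (fun p => Polynomial.coeff p 2) h
      simp [Pl, Polynomial.coeff_C] at this
      exact this)
    have hsub : (Finset.univ.erase (0 : D.F₀)) ⊆ Pl.roots.toFinset := fun t ht => by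
      rw [Multiset.mem_toFinset, Polynomial.mem_roots hne]
      have := hc t (Finset.ne_of_mem_erase ht)
      simp [Pl]
      linear_combination this
    have := (Finset.card_le_card hsub).trans ((Multiset.toFinset_card_le _).trans (Polynomial.card_roots' Pl))
    rw [Finset.card_erase_of_mem (Finset.mem_univ _), Finset.card_univ, card_F₀] at this
    omega
  have hr : B D (f.r1 + t • f.r2) (f.r1 + t • f.r2) ≠ 0 := by
    simp [map_add, map_smul, f.h12, refl' D _ _ f.h12]
    intro h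
    exact htN (by linear_combination h)
  obtain ⟨s, hs, hsx⟩ := C.pair (f.r1 + t • f.r2) f.r1 hr f.ha1
  have hN' : (a1 : F) + (t : F) ^ 2 * (a2 : F) ≠ 0 := fun e => htN (Subtype.ext (by simpa using e))
  have h2 := two_ne D
  have ha1 : B D f.r1 f.r1 = a1 := rfl
  have ha2 : B D f.r2 f.r2 = a2 := rfl
  have ha10 : a1 ≠ 0 := f.ha1
  have hcomm : t ^ 2 * a2 + a1 ≠ 0 := by rwa [add_comm]
  have hcomm' : a1 + t * (t * a2) ≠ 0 := by rwa [← mul_assoc, ← sq]
  refine ⟨s, hs, (((a1 - t ^ 2 * a2) / (a1 + t ^ 2 * a2) : D.F₀) : F),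
    ((2 * t * a1 / (a1 + t ^ 2 * a2) : D.F₀) : F), ((-(2 * t * a2) / (a1 + t ^ 2 * a2) : D.F₀) : F),
    pow_q_coe D _, pow_q_coe D _, pow_q_coe D _, ?_, ?_, ?_, ?_, ?_⟩
  · intro h
    have : (2 * t * a1 / (a1 + t ^ 2 * a2) : D.F₀) = 0 := Subtype.ext h
    simp [ht0, htN, two_ne' D, a1, f.ha1] at this
  · push_cast
    field_simp
  · rw [hsx, rf_perp (f.hvr f.hx1 f.hy1), rf_perp]
    rw [rv_add, rv_smul, H_add_right D.hF, H_smul_right, f.hvr f.hx1 f.hy1, f.hvr f.hx2 f.hy2, mul_zero, add_zero]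
  · rw [hsx, rf_rv, rf_rv, ← rv_smul, ← rv_smul, ← rv_add]
    congr 1
    simp only [map_add, map_smul, LinearMap.add_apply, LinearMap.smul_apply, f.h12, refl' D _ _ f.h12, smul_eq_mul,
      ha1, ha2, mul_zero, zero_mul, add_zero, zero_add]
    match_scalars <;> field_simp <;> ring
  · rw [hsx, rf_rv, rf_rv, ← rv_smul, ← rv_smul, ← rv_add]
    congr 1
    simp only [map_add, map_smul, LinearMap.add_apply, LinearMap.smul_apply, f.h12, refl' D _ _ f.h12, smul_eq_mul,
      ha1, ha2, mul_zero, zero_mul, add_zero, zero_add]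
    match_scalars <;> field_simp <;> ring

include hN hv h5 in
theorem ratio {W : Vec} (hW : SS D M v W) : f.k1 W * f.k2 W ^ q = f.k1 W ^ q * f.k2 W := by
  obtain ⟨s, hs, A, Bc, Cc, hA, hBc, hCc, hB0, hCB, hsv, hs1, hs2⟩ := f.torus C h5
  obtain ⟨c, hc⟩ := f.expand hW.perp
  have hr := img_real C hN hv hW.one ((hW.map C hv hs hsv).one)
  rw [hc, mulVec_add, mulVec_add, mulVec_smul, mulVec_smul, mulVec_smul, hsv, hs1, hs2] at hr
  simp only [H_add_left, H_add_right D.hF, H_smul_left, H_smul_right, f.hvv, f.hvr f.hx1 f.hy1,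
    f.hvr f.hx2 f.hy2, (H_eq_zero_comm D.hF).1 (f.hvr f.hx1 f.hy1), (H_eq_zero_comm D.hF).1 (f.hvr f.hx2 f.hy2),
    hB D f.r1 f.r1, hB D f.r2 f.r2, show H (rv D f.r1) (rv D f.r2) = 0 by rw [hB, f.h12]; rfl,
    show H (rv D f.r2) (rv D f.r1) = 0 by rw [hB, refl' D _ _ f.h12]; rfl, hA, hBc, hCc] at hr
  have h4 : (2 * Bc * (B D f.r2 f.r2 : F)) * (f.k1 W * f.k2 W ^ q - f.k1 W ^ q * f.k2 W) = 0 := by
    linear_combination (-1 : F) * hr + (f.k1 W * f.k2 W ^ q - f.k1 W ^ q * f.k2 W) * hCB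
  exact sub_eq_zero.1 ((mul_eq_zero.1 h4).resolve_left (mul_ne_zero (mul_ne_zero (two_ne D) hB0) f.ne2))

include hN hv h5 in
/-- the Siegel directions form a scalar multiple of the rational plane -/
theorem exists_lam (hirr : Irr D v) : ∃ lam : F, lam ≠ 0 ∧
    ∀ t1 t2 : D.F₀, SS D M v (lam • rv D (t1 • f.r1 + t2 • f.r2)) := by
  have hr1 : f.r1 ≠ 0 := fun e => f.ha1 (by simp [e])
  obtain ⟨W1, hW1, hW1r⟩ := exists_W C hv hirr hr1
  set κ := f.k1 W1 with hκ
  have hκ0 : κ ≠ 0 := div_ne_zero hW1r f.ne1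
  have hρ : f.k2 W1 / κ ∈ D.F₀ := by
    have h := f.ratio C hN hv h5 hW1
    rw [fix_iff, div_pow, div_eq_div_iff (pow_ne_zero _ hκ0) hκ0]
    linear_combination h
  set ρ : D.F₀ := ⟨_, hρ⟩ with hρdef
  have h1k2 : f.k2 W1 = (ρ : F) * κ := (div_mul_cancel₀ _ hκ0).symm
  set z := (ρ * B D f.r2 f.r2) • f.r1 - B D f.r1 f.r1 • f.r2 with hz
  have hz0 : z ≠ 0 := fun e => by
    have := congrArg (B D f.r2) e
    simp [hz, refl' D _ _ f.h12, f.ha1, f.ha2] at this
  obtain ⟨W2, hW2, hW2z⟩ := exists_W C hv hirr hz0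
  set μ1 := f.k1 W2 / κ with hμ1
  set μ2 := f.k2 W2 / κ with hμ2
  have e1 : f.k1 W2 = μ1 * κ := (div_mul_cancel₀ _ hκ0).symm
  have e2 : f.k2 W2 = μ2 * κ := (div_mul_cancel₀ _ hκ0).symm
  have hN' : κ * κ ^ q ≠ 0 := mul_ne_zero hκ0 (pow_ne_zero _ hκ0)
  have r2' : μ1 * μ2 ^ q = μ1 ^ q * μ2 := by
    have h := f.ratio C hN hv h5 hW2
    rw [e1, e2, mul_pow, mul_pow] at h
    exact mul_left_cancel₀ hN' (by linear_combination h)
  set δ := (ρ : F) * μ1 - μ2 with hδ
  have hδ0 : δ ≠ 0 := fun e => hW2z (by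
    rw [hz, rv_sub, rv_smul, rv_smul, H_sub_right D.hF, H_smul_right, H_smul_right, pow_q_coe, pow_q_coe]
    have a1 : H W2 (rv D f.r1) = μ1 * κ * (B D f.r1 f.r1 : F) := by
      rw [← e1, Frame.k1, div_mul_cancel₀ _ f.ne1]
    have a2 : H W2 (rv D f.r2) = μ2 * κ * (B D f.r2 f.r2 : F) := by
      rw [← e2, Frame.k2, div_mul_cancel₀ _ f.ne2]
    rw [a1, a2]
    push_cast
    linear_combination (κ * (B D f.r1 f.r1 : F) * (B D f.r2 f.r2 : F)) * e)
  have hδq : δ ^ q = δ := by
    have h := f.ratio C hN hv h5 (hW1.add C hN hv hW2)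
    have k1a : f.k1 (W1 + W2) = κ * (1 + μ1) := by
      rw [Frame.k1, H_add_left, add_div, ← Frame.k1, ← Frame.k1, e1, ← hκ]; ring
    have k2a : f.k2 (W1 + W2) = κ * ((ρ : F) + μ2) := by
      rw [Frame.k2, H_add_left, add_div, ← Frame.k2, ← Frame.k2, e2, h1k2]; ring
    rw [k1a, k2a, mul_pow, mul_pow] at h
    have h' : (1 + μ1) * ((ρ : F) + μ2) ^ q = (1 + μ1) ^ q * ((ρ : F) + μ2) :=
      mul_left_cancel₀ hN' (by linear_combination h)
    simp only [← HermStd.qHom_apply D.hF, map_add, map_one] at h'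
    simp only [HermStd.qHom_apply, pow_q_coe] at h'
    rw [hδ, ← HermStd.qHom_apply D.hF, map_sub, map_mul, HermStd.qHom_apply, HermStd.qHom_apply, HermStd.qHom_apply,
      pow_q_coe]
    linear_combination -h' + r2'
  have hμ1q : μ1 ^ q = μ1 := by
    have h : δ * μ1 ^ q = δ * μ1 := by
      have hμ2q : μ2 ^ q = (ρ : F) * μ1 ^ q - δ := by
        have := hδq
        rw [hδ, ← HermStd.qHom_apply D.hF, map_sub, map_mul, HermStd.qHom_apply, HermStd.qHom_apply, HermStd.qHom_apply,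
          pow_q_coe] at this
        linear_combination -this
      rw [hμ2q, show μ2 = (ρ : F) * μ1 - δ by rw [hδ]; ring] at r2'
      linear_combination r2'
    exact mul_left_cancel₀ hδ0 h
  set m1 : D.F₀ := ⟨μ1, (fix_iff D _).2 hμ1q⟩ with hm1
  set d : D.F₀ := ⟨δ, (fix_iff D _).2 hδq⟩ with hd
  have hd0 : d ≠ 0 := fun e => hδ0 (congrArg Subtype.val e)
  obtain ⟨g0, hg0, hg0x⟩ := C.pair f.r1 f.r2 f.ha1 f.ha2
  have hg0v : (g0 : Matrix Idx Idx F) *ᵥ v = v := by
    rw [hg0x, rf_perp (f.hvr f.hx2 f.hy2), rf_perp (f.hvr f.hx1 f.hy1)]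
  have hg01 : (g0 : Matrix Idx Idx F) *ᵥ rv D f.r1 = -rv D f.r1 := by
    rw [hg0x, rf_rv, rf_rv, ← rv_neg]
    congr 1
    simp only [map_add, map_smul, LinearMap.add_apply, LinearMap.smul_apply, f.h12, refl' D _ _ f.h12, smul_eq_mul]
    have := f.ha1
    match_scalars <;> field_simp <;> ring
  have hg02 : (g0 : Matrix Idx Idx F) *ᵥ rv D f.r2 = -rv D f.r2 := by
    rw [hg0x, rf_rv, rf_rv, ← rv_neg]
    congr 1
    simp only [map_add, map_smul, LinearMap.add_apply, LinearMap.smul_apply, f.h12, refl' D _ _ f.h12, smul_eq_mul]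
    have := f.ha2
    match_scalars <;> field_simp <;> ring
  refine ⟨2 * κ, mul_ne_zero (two_ne D) hκ0, fun t1 t2 => ?_⟩
  set b := (ρ * t1 - t2) / d with hb
  set a := t1 - b * m1 with ha
  set W := (a : F) • W1 + (b : F) • W2 with hWdef
  have hW : SS D M v W := (hW1.smul a).add C hN hv (hW2.smul b)
  obtain ⟨c, hc⟩ := f.expand hW.perp
  have hk1 : f.k1 W = κ * (t1 : F) := by
    rw [Frame.k1, hWdef, H_add_left, H_smul_left, H_smul_left, add_div, mul_div_assoc, mul_div_assoc, ← Frame.k1,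
      ← Frame.k1, e1, ← hκ, ha, show μ1 = (m1 : F) from rfl]
    push_cast
    ring
  have hk2 : f.k2 W = κ * (t2 : F) := by
    rw [Frame.k2, hWdef, H_add_left, H_smul_left, H_smul_left, add_div, mul_div_assoc, mul_div_assoc, ← Frame.k2,
      ← Frame.k2, e2, h1k2, ha, show μ2 = (ρ : F) * (m1 : F) - (d : F) by
        show μ2 = (ρ : F) * μ1 - δ
        rw [hδ]; ring]
    have hbd : (b : F) * (d : F) = (ρ : F) * t1 - t2 := by
      have : b * d = ρ * t1 - t2 := div_mul_cancel₀ _ hd0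
      simpa using congrArg Subtype.val this
    push_cast
    linear_combination -κ * hbd
  have h := hW.add C hN hv ((hW.map C hv hg0 hg0v).neg C hv)
  rw [hc, mulVec_add, mulVec_add, mulVec_smul, mulVec_smul, mulVec_smul, hg0v, hg01, hg02, hk1, hk2] at h
  convert h using 1
  rw [rv_add, rv_smul, rv_smul]
  module

include hN hv h5 in
/-- the rational plane orthogonal to an irrational image is anisotropic -/
theorem aniso (hirr : Irr D v) (t1 t2 : D.F₀)
    (h : B D f.r1 f.r1 * t1 ^ 2 + B D f.r2 f.r2 * t2 ^ 2 = 0) : t1 = 0 ∧ t2 = 0 := by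
  by_contra hne
  obtain ⟨lam, hlam, hS⟩ := f.exists_lam C hN hv h5 hirr
  set z := t1 • f.r1 + t2 • f.r2 with hz
  have hzz : B D z z = 0 := by
    simp [hz, f.h12, refl' D _ _ f.h12]
    linear_combination h
  have hz0 : z ≠ 0 := fun e => by
    have e1 := congrArg (B D f.r1) e
    have e2 := congrArg (B D f.r2) e
    simp [hz, f.h12, refl' D _ _ f.h12] at e1 e2
    exact hne ⟨e1.resolve_right f.ha1, e2.resolve_right f.ha2⟩
  have hxz : B D f.x z = 0 := by simp [hz, f.hx1, f.hx2]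
  have hyz : B D f.y z = 0 := by simp [hz, f.hy1, f.hy2]
  have hvz : H v (rv D z) = 0 := f.hvr hxz hyz
  have hzW : Sg0 q M (rv D z) (-(lam ^ q) • v) := by
    obtain ⟨-, s', hs', hsx'⟩ := (hS t1 t2).one
    refine ⟨by rw [H_smul_left, hvz, mul_zero], s', hs', fun u => ?_⟩
    rw [hsx']
    simp only [← hz, H_smul_left, H_smul_right, f.hvv, hH0 D hzz, mul_zero, zero_div, neg_zero, zero_mul, add_zero]
    rw [← HermStd.qHom_apply D.hF (-lam ^ q), map_neg, HermStd.qHom_apply, pow_qq D.hF]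
    module
  have key : ∀ w : Idx → D.F₀, B D w z = 0 → lam * H (rv D w) v ∈ D.F₀ := fun w hw => by
    have h3 := hN z _ hz0 hzz (skew_sub D.hF _ _) (sg0_comm D.hF (hH0 D hzz) (C.sg hzz hw) hzW)
    rw [H_smul_right, H_smul_left, ← H_conj D.hF (rv D w) v, ← HermStd.qHom_apply D.hF (-lam ^ q), map_neg,
      HermStd.qHom_apply, pow_qq D.hF] at h3
    rw [fix_iff, mul_pow]
    linear_combination h3
  set xx := B D f.x f.x
  set xy := B D f.x f.y
  set yy := B D f.y f.y
  have hd := f.hdet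
  set w1 := yy • f.x - xy • f.y with hw1
  set w2 := xy • f.x - xx • f.y with hw2
  have k1 := key w1 (by simp [hw1, hxz, hyz])
  have k2 := key w2 (by simp [hw2, hxz, hyz])
  have e1 : H (rv D w1) v = ((xx * yy - xy * xy : D.F₀) : F) := by
    conv_lhs => rw [f.hv]
    rw [H_add_right D.hF, H_smul_right, th_q, hB, hB]
    simp [hw1, swap D f.x f.y, xx, xy, yy]
    ring
  have e2 : H (rv D w2) v = th D * ((xx * yy - xy * xy : D.F₀) : F) := by
    conv_lhs => rw [f.hv]
    rw [H_add_right D.hF, H_smul_right, th_q, hB, hB]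
    simp [hw2, swap D f.x f.y, xx, xy, yy]
    ring
  rw [e1] at k1
  rw [e2] at k2
  refine th_not_mem D ?_
  have hd' : ((xx * yy - xy * xy : D.F₀) : F) ≠ 0 := fun e => hd (Subtype.ext e)
  rw [show th D = (lam * (th D * ((xx * yy - xy * xy : D.F₀) : F))) /
      (lam * ((xx * yy - xy * xy : D.F₀) : F)) by rw [eq_div_iff (mul_ne_zero hlam hd')]; ring]
  exact D.F₀.div_mem k2 k1

end Frame

end Cfsg.Agent.Forms.Max.SU4.Orth
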