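import Mathlib
import Cfsg.Agent.Lib.Forms.Max.SU4.OrthImages

/-!
# An overgroup of the real orthogonal group contains a transvection with rational centre
-/

set_option autoImplicit false
set_option linter.unusedSectionVars false

namespace Cfsg.Agent.Forms.Max.SU4.Orth

open Matrix Cfsg.Agent.Classical.Unitary
open OrthInUnitary (Sg0)

variable {F : Type*} [Field F] [Fintype F] {q : ℕ}

local notation "Idx" => (Fin 4)
local notation "Vec" => (Fin 4 → F)
local notation "GLn" => GL (Fin 4) F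
local notation "H" => Cfsg.hermForm 4 F q

variable {D : Data F q 4} {M : Subgroup (GL (Fin 4) F)}

theorem Frame.right {v : Vec} (f : Frame D v) (u : Vec) :
    H u v = H u (rv D f.x) - th D * H u (rv D f.y) := by
  rw [show H u v = H u (rv D f.x + th D • rv D f.y) from congrArg (H u) f.hv, H_add_right D.hF, H_smul_right, th_q]
  ring

theorem Frame.left {v : Vec} (f : Frame D v) (u : Vec) :
    H v u = H (rv D f.x) u + th D * H (rv D f.y) u := by
  rw [show H v u = H (rv D f.x + th D • rv D f.y) u from congrArg (fun w => H w u) f.hv, H_add_left, H_smul_left]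

theorem nonsquare_of_aniso {a b : D.F₀} (ha : a ≠ 0) (hb : b ≠ 0)
    (h : ∀ t1 t2 : D.F₀, a * t1 ^ 2 + b * t2 ^ 2 = 0 → t1 = 0 ∧ t2 = 0) : ¬ IsSquare (-(a * b)) := by
  rintro ⟨s, hs⟩
  exact hb (h b s (by linear_combination (-b) * hs)).1

theorem disc_square {v w : Vec} (fv : Frame D v) (fw : Frame D w) :
    ∃ s : D.F₀, B D fw.r1 fw.r1 * B D fw.r2 fw.r2 * (B D fw.x fw.x * B D fw.y fw.y - B D fw.x fw.y * B D fw.x fw.y) =
      s ^ 2 *
        (B D fv.r1 fv.r1 * B D fv.r2 fv.r2 * (B D fv.x fv.x * B D fv.y fv.y - B D fv.x fv.y * B D fv.x fv.y)) := by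
  classical
  set G := LinearMap.BilinForm.toMatrix' (B D) with hG
  have key : ∀ {u : Vec} (f : Frame D u),
      (Matrix.of ![f.x, f.y, f.r1, f.r2]).det ^ 2 * G.det =
        B D f.r1 f.r1 * B D f.r2 f.r2 * (B D f.x f.x * B D f.y f.y - B D f.x f.y * B D f.x f.y) := by
    intro u f
    set cs : Fin 4 → Fin 4 → D.F₀ := ![f.x, f.y, f.r1, f.r2] with hC
    set C : Matrix (Fin 4) (Fin 4) D.F₀ := Matrix.of cs with hCm
    have e : C * G * Cᵀ = Matrix.of fun i j => B D (cs i) (cs j) := by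
      ext i j
      rw [Matrix.of_apply]
      conv_rhs => rw [← Matrix.toBilin'_toMatrix' (B D)]
      rw [Matrix.toBilin'_apply', Matrix.mul_assoc]
      simp only [Matrix.mul_apply, dotProduct, Matrix.mulVec, Matrix.transpose_apply, hG, hCm, Matrix.of_apply]
    rw [show C.det ^ 2 * G.det = (C * G * Cᵀ).det by rw [Matrix.det_mul, Matrix.det_mul, Matrix.det_transpose]; ring,
      e]
    simp [hC, Matrix.det_succ_row_zero, Fin.sum_univ_succ, Fin.succAbove, f.hx1, f.hx2, f.hy1, f.hy2, f.h12,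
      refl' D _ _ f.hx1, refl' D _ _ f.hx2, refl' D _ _ f.hy1, refl' D _ _ f.hy2, refl' D _ _ f.h12,
      swap D f.x f.y]
    ring
  set cv := (Matrix.of ![fv.x, fv.y, fv.r1, fv.r2]).det
  set cw := (Matrix.of ![fw.x, fw.y, fw.r1, fw.r2]).det
  have hcv : cv ≠ 0 := fun e => by
    have := key fv
    rw [show (Matrix.of ![fv.x, fv.y, fv.r1, fv.r2]).det = 0 from e] at this
    simp [fv.ha1, fv.ha2, fv.hdet] at this
  refine ⟨cw / cv, ?_⟩
  rw [← key fw, ← key fv]
  show cw ^ 2 * G.det = (cw / cv) ^ 2 * (cv ^ 2 * G.det)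
  field_simp

set_option maxHeartbeats 2000000 in
theorem no_noRoot (C : Ctx D M) (h5 : 5 ≤ q) (hN : NoRoot D M) {v : Vec} (hv : Img D M v) (hirr : Irr D v) :
    False := by
  classical
  haveI := Fintype.ofFinite D.F₀
  have hvv := img_iso C hv
  obtain ⟨f⟩ := exists_frame hvv (beta_ne C hN hv hirr)
  obtain ⟨lam, hlam, hS⟩ := f.exists_lam C hN hv h5 hirr
  have han := f.aniso C hN hv h5 hirr
  have h2 := two_ne D
  have hθ0 := th_ne D
  set a1 := B D f.r1 f.r1 with ha1
  set a2 := B D f.r2 f.r2 with ha2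
  set xx := B D f.x f.x with hxx
  set xy := B D f.x f.y with hxy
  set yy := B D f.y f.y with hyy
  set dp := xx * yy - xy * xy with hdp
  have hdp0 : dp ≠ 0 := f.hdet
  -- vectors of the plane of `v` with prescribed product with `v`
  have hsolve : ∀ h : F, ∃ p, B D p f.r1 = 0 ∧ B D p f.r2 = 0 ∧ H (rv D p) v = h := by
    intro h
    obtain ⟨h0, h1, rfl⟩ := split D h
    refine ⟨((h0 * yy + h1 * xy) / dp) • f.x + ((-(h1 * xx) - h0 * xy) / dp) • f.y,
      by simp [f.hx1, f.hy1], by simp [f.hx2, f.hy2], ?_⟩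
    have e : dp / dp = 1 := div_self hdp0
    rw [f.right, hB, hB]
    have i1 : B D (((h0 * yy + h1 * xy) / dp) • f.x + ((-(h1 * xx) - h0 * xy) / dp) • f.y) f.x = h0 := by
      simp only [map_add, map_smul, LinearMap.add_apply, LinearMap.smul_apply, smul_eq_mul, swap D f.x f.y, ← hxx,
        ← hxy]
      field_simp
      rw [hdp]; ring
    have i2 : B D (((h0 * yy + h1 * xy) / dp) • f.x + ((-(h1 * xx) - h0 * xy) / dp) • f.y) f.y = -h1 := by
      simp only [map_add, map_smul, LinearMap.add_apply, LinearMap.smul_apply, smul_eq_mul, ← hyy, ← hxy]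
      field_simp
      rw [hdp]; ring
    rw [i1, i2]
    push_cast
    ring
  obtain ⟨p0, hp01, hp02, hp0⟩ := hsolve (th D / lam)
  obtain ⟨p1, hp11, hp12, hp1⟩ := hsolve (1 / lam)
  set q0 := B D p0 p0 with hq0
  set q1 := B D p0 p1 with hq1
  set q2 := B D p1 p1 with hq2
  -- the target
  obtain ⟨n0, hn0⟩ := FiniteField.exists_nonsquare (ringChar_ne_two D)
  obtain ⟨ν1, hν1⟩ := Unitary.exists_norm D.hF (d := (n0 : F)) (pow_q_coe D n0)
  have hν10 : ν1 ≠ 0 := fun e => hn0 ⟨0, Subtype.ext (by rw [← hν1, e, mul_zero]; simp)⟩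
  have hν1F : ν1 ∉ D.F₀ := fun h => hn0 ⟨⟨ν1, h⟩, Subtype.ext (by
    rw [← hν1, (fix_iff D _).1 h]; rfl)⟩
  have hnsq : ∀ k : D.F₀, k ≠ 0 → ∀ s : D.F₀, ((k : F) * ν1) ^ q * ((k : F) * ν1) ≠ (s : F) * s := by
    intro k hk s hs
    refine hn0 ⟨s / k, Subtype.ext ?_⟩
    have hk' : (k : F) ≠ 0 := fun e => hk (Subtype.ext e)
    rw [← hν1]
    push_cast
    field_simp
    rw [mul_pow, pow_q_coe] at hs
    linear_combination hs
  set μ := lam ^ q * lam ^ q * beta D v / 4 with hμ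
  have hμ0 : μ ≠ 0 := div_ne_zero (mul_ne_zero (mul_ne_zero (pow_ne_zero _ hlam) (pow_ne_zero _ hlam)) f.hb)
    (by rw [show (4 : F) = 2 * 2 by norm_num]; exact mul_ne_zero h2 h2)
  have hkν : ∀ k : D.F₀, (k : F) * ν1 - 1 ≠ 0 := fun k e => by
    rcases eq_or_ne k 0 with rfl | hk
    · simp at e
    · refine hν1F ?_
      rw [show ν1 = 1 / (k : F) by
        rw [eq_div_iff fun e' => hk (Subtype.ext e')]; linear_combination e]
      exact D.F₀.div_mem (one_mem _) k.2
  let X : D.F₀ → F := fun k => 2 * th D / (μ * ((k : F) * ν1 - 1))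
  have hXinj : ∀ k k', X k = X k' → k = k' := fun k k' e => by
    have e' : μ * ((k : F) * ν1 - 1) = μ * ((k' : F) * ν1 - 1) := by
      have h1 := congrArg (fun z => 2 * th D / z) e
      simp only [X] at h1
      rwa [div_div_cancel₀ (mul_ne_zero h2 hθ0), div_div_cancel₀ (mul_ne_zero h2 hθ0)] at h1
    exact Subtype.ext (mul_right_cancel₀ hν10 (sub_left_inj.1 (mul_left_cancel₀ hμ0 e')))
  set Xb : F := ((4 * q1 : D.F₀) : F) + th D * ((-4 * q2 : D.F₀) : F) with hXb
  have hreal : ∀ k k', X k ∈ D.F₀ → X k' ∈ D.F₀ → k ≠ 0 → k' ≠ 0 → k = k' := by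
    intro k k' hk hk' h0 h0'
    by_contra hne
    have hr : ∀ j : D.F₀, X j ∈ D.F₀ → μ * ((j : F) * ν1 - 1) / th D ∈ D.F₀ := fun j hj => by
      have e : μ * ((j : F) * ν1 - 1) / th D = 2 / X j := by
        simp only [X]
        field_simp
      rw [e]
      exact D.F₀.div_mem (by rw [show (2 : F) = 1 + 1 by norm_num]; exact add_mem (one_mem _) (one_mem _)) hj
    have r1 := hr k hk
    have r2 := hr k' hk'
    have hd : (k : F) - k' ≠ 0 := sub_ne_zero.2 fun e => hne (Subtype.ext e)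
    refine hν1F ?_
    have hd2 : (k' : F) * (μ * ((k : F) * ν1 - 1) / th D) - k * (μ * ((k' : F) * ν1 - 1) / th D) ≠ 0 := by
      rw [show (k' : F) * (μ * ((k : F) * ν1 - 1) / th D) - k * (μ * ((k' : F) * ν1 - 1) / th D) =
        μ / th D * ((k : F) - k') by ring]
      exact mul_ne_zero (div_ne_zero hμ0 hθ0) hd
    rw [show ν1 = ((μ * ((k : F) * ν1 - 1) / th D) - (μ * ((k' : F) * ν1 - 1) / th D)) /
        ((k' : F) * (μ * ((k : F) * ν1 - 1) / th D) - k * (μ * ((k' : F) * ν1 - 1) / th D)) by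
      rw [eq_div_iff hd2]; ring]
    exact D.F₀.div_mem (sub_mem r1 r2) (sub_mem (mul_mem k'.2 r1) (mul_mem k.2 r2))
  obtain ⟨k, hk0, hkF, hkb⟩ : ∃ k : D.F₀, k ≠ 0 ∧ X k ∉ D.F₀ ∧ X k ≠ Xb := by
    by_contra hc
    push Not at hc
    have hle : ((Finset.univ.erase (0 : D.F₀)).filter fun k => X k ∈ D.F₀).card +
        ((Finset.univ.erase (0 : D.F₀)).filter fun k => ¬ X k ∈ D.F₀).card = q - 1 := by
      rw [Finset.card_filter_add_card_filter_not, Finset.card_erase_of_mem (Finset.mem_univ _), Finset.card_univ,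
        card_F₀]
    have l1 : ((Finset.univ.erase (0 : D.F₀)).filter fun k => X k ∈ D.F₀).card ≤ 1 :=
      Finset.card_le_one.2 fun a ha b hb => by
        simp only [Finset.mem_filter, Finset.mem_erase] at ha hb
        exact hreal a b ha.2 hb.2 ha.1.1 hb.1.1
    have l2 : ((Finset.univ.erase (0 : D.F₀)).filter fun k => ¬ X k ∈ D.F₀).card ≤ 1 :=
      Finset.card_le_one.2 fun a ha b hb => by
        simp only [Finset.mem_filter, Finset.mem_erase] at ha hb
        exact hXinj a b ((hc a ha.1.1 ha.2).trans (hc b hb.1.1 hb.2).symm)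
    omega
  obtain ⟨R, a, hXRa⟩ := split D (X k)
  have ha0 : a ≠ 0 := fun e => hkF (by rw [hXRa, e]; simp)
  have hbad : ¬ (q2 + a / 4 = 0 ∧ R / 2 - 2 * q1 = 0) := by
    rintro ⟨e1, e2⟩
    have h20 := two_ne' D
    have h40 : (4 : D.F₀) ≠ 0 := by rw [show (4 : D.F₀) = 2 * 2 by norm_num]; exact mul_ne_zero h20 h20
    refine hkb ?_
    rw [hXRa, hXb]
    have ea : a = -4 * q2 := by
      field_simp at e1
      linear_combination e1
    have eR : R = 4 * q1 := by
      field_simp at e2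
      linear_combination e2
    rw [ea, eR]
  obtain ⟨t1, t2, ht⟩ := exists_sum_squares D (c := a) f.ha1 f.ha2
  set γ := a1 * a2 * a with hγ
  have hγ0 : γ ≠ 0 := mul_ne_zero (mul_ne_zero f.ha1 f.ha2) ha0
  -- choosing the real part
  obtain ⟨e, l, hel⟩ : ∃ e l : D.F₀,
      -(a * (q0 + 2 * q1 * e + q2 * e ^ 2)) - (R - a * e) ^ 2 / 4 = a * γ * l ^ 2 := by
    have h20 := two_ne' D
    have h40 : (4 : D.F₀) ≠ 0 := by rw [show (4 : D.F₀) = 2 * 2 by norm_num]; exact mul_ne_zero h20 h20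
    set c2 := -a * (q2 + a / 4) with hc2
    set c1 := a * (R / 2 - 2 * q1) with hc1
    set c0 := -(a * q0) - R ^ 2 / 4 with hc0
    have hid : ∀ e, -(a * (q0 + 2 * q1 * e + q2 * e ^ 2)) - (R - a * e) ^ 2 / 4 = c2 * e ^ 2 + c1 * e + c0 := fun e => by
      rw [hc2, hc1, hc0]; field_simp; ring
    by_cases h : c2 = 0
    · have hc1' : c1 ≠ 0 := by
        refine mul_ne_zero ha0 fun e => hbad ⟨?_, e⟩
        exact (mul_eq_zero.1 h).resolve_left (neg_ne_zero.2 ha0)
      refine ⟨-c0 / c1, 0, ?_⟩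
      rw [hid, h]
      field_simp
      ring
    · obtain ⟨s, t, hst⟩ := exists_sum_squares D (c := c1 ^ 2 / (4 * c2) - c0) h
        (neg_ne_zero.2 (mul_ne_zero ha0 hγ0))
      refine ⟨s - c1 / (2 * c2), t, ?_⟩
      rw [hid]
      field_simp at hst ⊢
      linear_combination hst
  set w := t1 • f.r1 + t2 • f.r2 with hw
  set w' := -(a2 * t2) • f.r1 + (a1 * t1) • f.r2 with hw'
  set b := R - a * e with hb
  set r0 := (b / (2 * a)) • w + l • w' with hr0
  set p := p0 + e • p1 with hp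
  set z := p + r0 with hz
  set ω : F := th D + e with hω
  have hBww : B D w w = a := by
    simp [hw, f.h12, refl' D _ _ f.h12, ← ha1, ← ha2]
    linear_combination ht
  have hBww' : B D w w' = 0 := by
    simp [hw, hw', f.h12, refl' D _ _ f.h12, ← ha1, ← ha2]
    ring
  have hBw'w' : B D w' w' = γ := by
    simp [hw', f.h12, refl' D _ _ f.h12, ← ha1, ← ha2, hγ]
    linear_combination (a1 * a2) * ht
  have hpr : ∀ s t : D.F₀, B D p (s • f.r1 + t • f.r2) = 0 := fun s t => by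
    simp [hp, hp01, hp02, hp11, hp12]
  have hpw : B D p w = 0 := hpr _ _
  have hpw' : B D p w' = 0 := hpr _ _
  have hBrw : B D r0 w = b / 2 := by
    simp [hr0, hBww, refl' D _ _ hBww']
    field_simp
  have hBzw : B D z w = b / 2 := by
    show B D (p + r0) w = _
    rw [(B D).map_add, LinearMap.add_apply, hpw, hBrw, zero_add]
  have hzz : B D z z = 0 := by
    have hpr0 : B D p r0 = 0 := by simp [hr0, hpw, hpw']
    have hBrr : B D r0 r0 = b ^ 2 / (4 * a) + l ^ 2 * γ := by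
      simp [hr0, hBww, hBww', refl' D _ _ hBww', hBw'w']
      field_simp
      ring
    have hBpp : B D p p = q0 + 2 * q1 * e + q2 * e ^ 2 := by
      simp [hp, hq0, hq1, hq2, swap D p0 p1]
      ring
    simp only [hz, map_add, LinearMap.add_apply, hpr0, refl' D _ _ hpr0, hBrr, hBpp]
    have h20 := two_ne' D
    have h40 : (4 : D.F₀) ≠ 0 := by rw [show (4 : D.F₀) = 2 * 2 by norm_num]; exact mul_ne_zero h20 h20
    field_simp at hel ⊢
    linear_combination -hel
  have hr0x : B D f.x r0 = 0 ∧ B D f.y r0 = 0 := by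
    simp [hr0, hw, hw', f.hx1, f.hx2, f.hy1, f.hy2]
  have hzv : H (rv D z) v = ω / lam := by
    rw [hz, hp, rv_add, rv_add, rv_smul, H_add_left, H_add_left, H_smul_left, hp0, hp1,
      (H_eq_zero_comm D.hF).1 (f.hvr hr0x.1 hr0x.2), hω]
    ring
  have hω0 : ω ≠ 0 := fun h => th_not_mem D (by
    rw [show th D = -(e : F) from eq_neg_of_add_eq_zero_left h]
    exact neg_mem e.2)
  have hz0 : z ≠ 0 := fun h => div_ne_zero hω0 hlam (by rw [← hzv, h, rv_zero, H_zero_left])
  obtain ⟨-, E, hE, hEx⟩ := (hS t1 t2).one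
  set u := (E : Matrix Idx Idx F) *ᵥ rv D z with hu
  have hImg : Img D M u := ⟨E, hE, z, hz0, hzz, rfl⟩
  set L := -(lam ^ q * X k / 2) with hL
  have hXab : X k = (a : F) * ω + b := by
    rw [hXRa, hω, hb]; push_cast; ring
  have h2c : ((2 : D.F₀) : F) = 2 := map_ofNat D.F₀.subtype 2
  have h4 : (4 : F) ≠ 0 := by rw [show (4 : F) = 2 * 2 by norm_num]; exact mul_ne_zero h2 h2
  have hue : u = rv D z + ω • rv D w + L • v := by
    rw [hu, hEx, ← hw]
    have e1 : H (lam • rv D w) (lam • rv D w) = lam * (lam ^ q * (a : F)) := by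
      rw [H_smul_left, H_smul_right, hB, hBww]
    have e2 : H (rv D z) (lam • rv D w) = lam ^ q * ((b / 2 : D.F₀) : F) := by
      rw [H_smul_right, hB, hBzw]
    rw [e1, e2, hzv, smul_smul, div_mul_cancel₀ _ hlam, hL, hXab]
    congr 2
    push_cast
    rw [h2c]
    field_simp
    ring
  have hvw : H v (rv D w) = 0 := f.hvr (by simp [hw, f.hx1, f.hx2]) (by simp [hw, f.hy1, f.hy2])
  have hwv : H (rv D w) v = 0 := (H_eq_zero_comm D.hF).1 hvw
  have hbar : bar D v = rv D f.x - th D • rv D f.y := (congrArg (bar D) f.hv).trans (bar_dec D _ _)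
  have hwvb : H (rv D w) (bar D v) = 0 := by
    rw [hbar, H_sub_right D.hF, H_smul_right, hB, hB]
    simp [hw, refl' D _ _ f.hx1, refl' D _ _ f.hx2, refl' D _ _ f.hy1, refl' D _ _ f.hy2]
  have hzvb : H (rv D z) (bar D v) = (ω / lam) ^ q := by
    rw [← hzv, H_conj D.hF, hbar, f.left]
    rw [H_sub_right D.hF, H_smul_right, hB, hB, hB, hB, th_q, swap D f.x z, swap D f.y z]
    ring
  have hvz : H v (rv D z) = (ω / lam) ^ q := by rw [← hzv, H_conj D.hF]
  have hωq : ω ^ q = -th D + e := by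
    rw [hω, ← HermStd.qHom_apply D.hF, map_add, HermStd.qHom_apply, HermStd.qHom_apply, th_q, pow_q_coe]
  have hβ : beta D u = μ * X k ^ 2 * ((k : F) * ν1) := by
    have hμX : μ * X k * ((k : F) * ν1 - 1) = 2 * th D := by
      simp only [X]
      field_simp [hkν k]
    have hvvb : H v (bar D v) = beta D v := rfl
    rw [beta, hue, bar_add, bar_add, bar_rv, bar_smul, bar_rv, bar_smul]
    simp only [H_add_left, H_add_right D.hF, H_smul_left, H_smul_right, pow_qq D.hF, hzvb, hvz, hvw, hwvb, hvvb,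
      hB D z z, hzz, hB D z w, hBzw, hB D w w, hBww, hB D w z, swap D z w]
    have hLY : L * (ω / lam) ^ q = -(ω ^ q * X k / 2) := by
      rw [hL, ← show lam ^ q * (ω / lam) ^ q = ω ^ q by rw [← mul_pow, mul_div_cancel₀ _ hlam]]
      ring
    have hLL : L * L * beta D v = μ * X k ^ 2 := by
      rw [hL, hμ]
      field_simp
      ring
    push_cast
    rw [h2c]
    field_simp at hLY ⊢
    linear_combination (-2 * ω) * hXab + 2 * hLY + 2 * hLL + (-2 * X k) * hωq + (2 * X k) * hω +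
      (-2 * X k) * hμX
  have hX0 : X k ≠ 0 := fun h => hkF (h ▸ zero_mem _)
  have hk' : (k : F) ≠ 0 := fun e => hk0 (Subtype.ext e)
  have hβ0 : beta D u ≠ 0 := by
    rw [hβ]
    exact mul_ne_zero (mul_ne_zero hμ0 (pow_ne_zero _ hX0)) (mul_ne_zero hk' hν10)
  have hirr' : Irr D u := by
    intro c y h
    have huu := img_iso C hImg
    rw [h, H_smul_left, H_smul_right] at huu
    refine hβ0 ?_
    rw [beta, h, bar_rv_smul, H_smul_left, H_smul_right, pow_qq D.hF]
    rcases eq_or_ne c 0 with rfl | hc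
    · simp
    · simp [hc] at huu
      simp [huu]
  obtain ⟨f'⟩ := exists_frame (img_iso C hImg) hβ0
  have han' := f'.aniso C hN hImg h5 hirr'
  obtain ⟨s, hs⟩ := disc_square f f'
  obtain ⟨s', hs'⟩ : IsSquare ((-(a1 * a2)) * (-(B D f'.r1 f'.r1 * B D f'.r2 f'.r2))) := by
    have hn := nonsquare_of_aniso f.ha1 f.ha2 han
    have hn' := nonsquare_of_aniso f'.ha1 f'.ha2 han'
    have hne : (-(a1 * a2)) * (-(B D f'.r1 f'.r1 * B D f'.r2 f'.r2)) ≠ 0 :=
      mul_ne_zero (neg_ne_zero.2 (mul_ne_zero f.ha1 f.ha2)) (neg_ne_zero.2 (mul_ne_zero f'.ha1 f'.ha2))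
    rw [← quadraticChar_one_iff_isSquare hne, map_mul,
      quadraticChar_neg_one_iff_not_isSquare.2 hn, quadraticChar_neg_one_iff_not_isSquare.2 hn']
    norm_num
  set dp' := B D f'.x f'.x * B D f'.y f'.y - B D f'.x f'.y * B D f'.x f'.y with hdp'
  have h12' : (B D f'.r1 f'.r1 * B D f'.r2 f'.r2 : D.F₀) ≠ 0 := mul_ne_zero f'.ha1 f'.ha2
  set T := s * s' / (B D f'.r1 f'.r1 * B D f'.r2 f'.r2) with hT
  have hdp'' : dp' = T ^ 2 * dp := by
    rw [hT, div_pow, div_mul_eq_mul_div, eq_div_iff (pow_ne_zero _ h12')]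
    linear_combination (B D f'.r1 f'.r1 * B D f'.r2 f'.r2) * hs + (s ^ 2 * dp) * hs'
  have hnm : beta D u ^ q * beta D u = (T : F) ^ 2 * (beta D v ^ q * beta D v) := by
    rw [f'.hnorm, f.hnorm]
    show 4 * (th D * th D) * (dp' : F) = (T : F) ^ 2 * (4 * (th D * th D) * (dp : F))
    rw [hdp'']
    push_cast
    ring
  set c := lam ^ q * lam ^ q * X k ^ 2 / 4 with hc
  have hc0 : c ≠ 0 := div_ne_zero (mul_ne_zero (mul_ne_zero (pow_ne_zero _ hlam) (pow_ne_zero _ hlam))
    (pow_ne_zero _ hX0)) (by rw [show (4 : F) = 2 * 2 by norm_num]; exact mul_ne_zero h2 h2)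
  have hns : ((k : F) * ν1) ^ q * ((k : F) * ν1) * (c ^ q * c) = (T : F) ^ 2 := by
    have hbb : beta D v ^ q * beta D v ≠ 0 := mul_ne_zero (pow_ne_zero _ f.hb) f.hb
    refine mul_right_cancel₀ hbb ?_
    rw [← hnm, hβ, show μ * X k ^ 2 * ((k : F) * ν1) = c * beta D v * ((k : F) * ν1) by rw [hμ, hc]; ring]
    simp only [mul_pow]
    ring
  set Sq := ((lam ^ q * lam) * (X k ^ q * X k) / 4 : F) with hSq
  have hSqF : Sq ∈ D.F₀ := by
    refine D.F₀.div_mem (mul_mem ?_ ?_) (by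
      rw [show (4 : F) = (1 + 1) * (1 + 1) by norm_num]
      exact mul_mem (add_mem (one_mem _) (one_mem _)) (add_mem (one_mem _) (one_mem _)))
    · rw [fix_iff, mul_pow, pow_qq D.hF, mul_comm]
    · rw [fix_iff, mul_pow, pow_qq D.hF, mul_comm]
  have hcc : c ^ q * c = Sq * Sq := by
    rw [hc, hSq, ← HermStd.qHom_apply D.hF (lam ^ q * lam ^ q * X k ^ 2 / 4), map_div₀, map_mul, map_mul, map_pow,
      map_ofNat, HermStd.qHom_apply, HermStd.qHom_apply, pow_qq D.hF]
    field_simp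
    rw [← pow_mul, ← pow_mul, mul_comm]
  have hSq0 : Sq ≠ 0 := fun h0 => (mul_ne_zero (pow_ne_zero q hc0) hc0) (by rw [hcc, h0, mul_zero])
  refine hnsq k hk0 (T / ⟨Sq, hSqF⟩) ?_
  push_cast
  field_simp
  rw [hcc] at hns
  linear_combination hns

end Cfsg.Agent.Forms.Max.SU4.Orth
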