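import Mathlib
import Cfsg.Prelude.Def_GeometricClasses
import Cfsg.Agent.Lib.Forms.Max.SU4.OrthNoRoot
import Cfsg.Agent.Lib.Forms.Max.SubfieldMem

/-!
# Orthogonal groups over the subfield of index two are maximal in four-dimensional unitary groups
-/

set_option autoImplicit false
set_option linter.unusedSectionVars false

namespace Cfsg.Agent.Forms.Max.SU4.Orth

open Matrix Cfsg.Agent.Classical.Unitary
open SubfieldUnitary (InM inM_of inM_map inM_add inM_coeff_zero inM_zero exists_tvM)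
open OrthInUnitary (Sg0)

variable {F : Type*} [Field F] [Fintype F] {q : ℕ}

local notation "Idx" => (Fin 4)
local notation "Vec" => (Fin 4 → F)
local notation "GLn" => GL (Fin 4) F
local notation "H" => Cfsg.hermForm 4 F q
local notation "SUn" => (Cfsg.GU 4 F q ⊓ Cfsg.Geo.specialLinear (Fin 4) F)

variable {D : Data F q 4} {M : Subgroup (GL (Fin 4) F)}

theorem exists_sing (D : Data F q 4) : ∃ a : Idx → D.F₀, a ≠ 0 ∧ B D a a = 0 := by
  obtain ⟨r, hr0, -⟩ := exists_perp D (![] : Fin 0 → Idx → D.F₀) (by norm_num)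
  by_cases hrr : B D r r = 0
  · exact ⟨r, hr0, hrr⟩
  obtain ⟨s, hs0, hs⟩ := exists_perp D ![r] (by norm_num)
  have hrs : B D r s = 0 := hs 0
  by_cases hss : B D s s = 0
  · exact ⟨s, hs0, hss⟩
  obtain ⟨w, hw0, hw⟩ := exists_perp D ![r, s] (by norm_num)
  have hrw : B D r w = 0 := hw 0
  have hsw : B D s w = 0 := hw 1
  by_cases hww : B D w w = 0
  · exact ⟨w, hw0, hww⟩
  obtain ⟨t, t', ht⟩ := exists_sum_squares D (c := -(B D w w)) hrr hss
  refine ⟨t • r + t' • s + w, fun e => ?_, ?_⟩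
  · have := congrArg (B D w) e
    simp [refl' D _ _ hrw, refl' D _ _ hsw] at this
    exact hww this
  · simp [hrs, refl' D _ _ hrs, hrw, hsw, refl' D _ _ hrw, refl' D _ _ hsw]
    linear_combination ht

theorem exists_aniso_perp (D : Data F q 4) {x y : Idx → D.F₀} (hx : B D x x = 0) (hy : B D y y = 0)
    (hxy : B D x y ≠ 0) : ∃ r, B D x r = 0 ∧ B D y r = 0 ∧ B D r r ≠ 0 := by
  obtain ⟨r, hr0, hr⟩ := exists_perp D ![x, y] (by norm_num)
  have hxr : B D x r = 0 := hr 0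
  have hyr : B D y r = 0 := hr 1
  by_cases hrr : B D r r = 0
  swap
  · exact ⟨r, hxr, hyr, hrr⟩
  obtain ⟨e, he, hre⟩ := dual D r (Submodule.span D.F₀ ({x, y} : Set (Idx → D.F₀))) fun hm => by
    obtain ⟨s, t, rfl⟩ := Submodule.mem_span_pair.1 hm
    simp [hx, swap D x y, hxy] at hxr
    simp [hy, swap D x y, hxy] at hyr
    simp [hxr, hyr] at hr0
  have hxe := he x (Submodule.subset_span (by simp))
  have hye := he y (Submodule.subset_span (by simp))
  by_cases hee : B D e e = 0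
  swap
  · exact ⟨e, hxe, hye, hee⟩
  refine ⟨r + e, by rw [map_add, hxr, hxe, add_zero], by rw [map_add, hyr, hye, add_zero], ?_⟩
  simp only [map_add, LinearMap.add_apply, hrr, hee, swap D r e, hre, zero_add, add_zero]
  rw [one_add_one_eq_two]
  exact two_ne' D

theorem exists_partner' (D : Data F q 4) {a : Idx → D.F₀} (ha : a ≠ 0) (haa : B D a a = 0) :
    ∃ b, B D a b = 1 ∧ B D b b = 0 := by
  obtain ⟨e, -, he⟩ := dual D a ⊥ (by simpa using ha)
  have h2 := two_ne' D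
  refine ⟨e + (-(B D e e) / 2) • a, by rw [map_add, map_smul, he, haa, smul_zero, add_zero], ?_⟩
  simp only [map_add, map_smul, LinearMap.add_apply, LinearMap.smul_apply, haa, swap D a e, he, smul_eq_mul]
  field_simp
  ring

theorem exists_third (D : Data F q 4) {x a : Idx → D.F₀} (hx : x ≠ 0) (hxx : B D x x = 0) (ha : a ≠ 0)
    (haa : B D a a = 0) (hxa : B D x a = 0) : ∃ z, B D z z = 0 ∧ B D x z ≠ 0 ∧ B D a z ≠ 0 := by
  have h2 := two_ne' D
  obtain ⟨b, hab, hbb⟩ := exists_partner' D ha haa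
  by_cases hxb : B D x b = 0
  swap
  · exact ⟨b, hbb, hxb, by rw [hab]; exact one_ne_zero⟩
  obtain ⟨w, hw, hxw⟩ := dual D x (Submodule.span D.F₀ ({a, b} : Set (Idx → D.F₀))) fun hm => by
    obtain ⟨t, t', rfl⟩ := Submodule.mem_span_pair.1 hm
    simp only [map_add, map_smul, LinearMap.add_apply, LinearMap.smul_apply, haa, hab, hbb, swap D a b,
      smul_eq_mul, mul_zero, mul_one, zero_add, add_zero] at hxa hxb
    exact hx (by rw [hxa, hxb, zero_smul, zero_smul, add_zero])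
  have hwa : B D a w = 0 := hw a (Submodule.subset_span (by simp))
  have hwb : B D b w = 0 := hw b (Submodule.subset_span (by simp))
  refine ⟨b + w + (-(B D w w) / 2) • a, ?_, ?_, ?_⟩
  · simp only [map_add, map_smul, LinearMap.add_apply, LinearMap.smul_apply, haa, hbb, hab, hwa, hwb,
      swap D a b, swap D a w, swap D b w, smul_eq_mul]
    field_simp
    ring
  · simp [hxb, hxw, hxa]
  · simp [hab, hwa, haa]

theorem Ctx.move (C : Ctx D M) {x y : Idx → D.F₀} (hxx : B D x x = 0) (hyy : B D y y = 0)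
    (hx : x ≠ 0) (hy : y ≠ 0) : ∃ s ∈ M, (s : Matrix Idx Idx F) *ᵥ rv D x = rv D y := by
  have h2 := two_ne' D
  have step : ∀ x y, B D x x = 0 → B D y y = 0 → B D x y ≠ 0 →
      ∃ s ∈ M, (s : Matrix Idx Idx F) *ᵥ rv D x = rv D y := by
    intro x y hxx hyy hxy
    obtain ⟨r, hxr, hyr, hrr⟩ := exists_aniso_perp D hxx hyy hxy
    have hd : B D (x - y) (x - y) ≠ 0 := by
      simp only [map_sub, LinearMap.sub_apply, hxx, hyy, swap D x y]
      intro h
      refine hxy ((mul_eq_zero.1 (show (2 : D.F₀) * B D x y = 0 by linear_combination -h)).resolve_left h2)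
    obtain ⟨s, hs, hsx⟩ := C.pair (x - y) r hd hrr
    refine ⟨s, hs, ?_⟩
    rw [hsx, rf_perp (r := rv D r) (by rw [hB, hxr]; rfl), rf_rv]
    congr 1
    simp only [map_sub, LinearMap.sub_apply, hxx, hyy, swap D x y, zero_sub, sub_zero]
    have hneg : -B D x y - B D x y ≠ 0 := fun h => hxy ((mul_eq_zero.1
      (show (2 : D.F₀) * B D x y = 0 by linear_combination -h)).resolve_left h2)
    rw [show ((-1 - 1 : D.F₀) / (-B D x y - B D x y) * -B D x y) = -1 by
      rw [div_mul_eq_mul_div, div_eq_iff hneg]; ring]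
    module
  by_cases hxy : B D x y = 0
  swap
  · exact step x y hxx hyy hxy
  obtain ⟨z, hzz, hxz, hyz⟩ := exists_third D hx hxx hy hyy hxy
  obtain ⟨s, hs, hsx⟩ := step x z hxx hzz hxz
  obtain ⟨s', hs', hs'x⟩ := step z y hzz hyy (by rw [swap]; exact hyz)
  exact ⟨s' * s, mul_mem hs' hs, by rw [Max.mulVec_mul_GL, hsx, hs'x]⟩

set_option maxHeartbeats 2000000 in
theorem directions (C : Ctx D M) (hrc : ∀ a, B D a a = 0 → rv D a ∈ Unitary.centres q M)
    {a : Idx → D.F₀} (haa : B D a a = 0) (ha : a ≠ 0) {f : Idx → D.F₀} (hfa : B D f a = 0)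
    (hff : B D f f ≠ 0) (k : F) : SubfieldUnitary.Sg q M (rv D a) (k • rv D f) := by
  classical
  have hF := D.hF
  have h2 := two_ne D
  have h20 := two_ne' D
  obtain ⟨u, hu0, hus, hu3⟩ : ∃ u : F, u ≠ 0 ∧ u ^ q = -u ∧ 1 + 3 * (u * u) ≠ 0 := by
    by_cases h : 1 + 3 * (th D * th D) = 0
    · refine ⟨2 * th D, mul_ne_zero h2 (th_ne D), ?_, fun h' => ?_⟩
      · rw [mul_pow, th_q, ← HermStd.qHom_apply hF, map_ofNat]; ring
      · have e : (9 : F) * (th D * th D) = 0 := by linear_combination h' - h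
        have e3 : (3 : F) = 0 := by
          rcases mul_eq_zero.1 e with e9 | e9
          · rw [show (9 : F) = 3 * 3 by norm_num] at e9
            exact mul_self_eq_zero.1 e9
          · exact absurd (mul_self_eq_zero.1 e9) (th_ne D)
        rw [e3, zero_mul, add_zero] at h
        exact one_ne_zero h
    · exact ⟨th D, th_ne D, th_q D, h⟩
  have hu1 : 1 - u ≠ 0 := fun e => by
    have eu : u = 1 := (sub_eq_zero.1 e).symm
    rw [eu, one_pow] at hus
    exact h2 (by linear_combination hus)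
  have hu1' : 1 + u ≠ 0 := fun e => by
    have eu : u = -1 := eq_neg_of_add_eq_zero_right e
    rw [eu, (D.hodd).neg_one_pow, neg_neg] at hus
    exact h2 (by linear_combination -hus)
  set ξ := (1 + u) / (1 - u) with hξ
  set α := B D f f with hα
  obtain ⟨b₀, hfb₀, hab₀⟩ := dual D a (Submodule.span D.F₀ ({f} : Set (Idx → D.F₀))) fun hm => by
    obtain ⟨t, rfl⟩ := Submodule.mem_span_singleton.1 hm
    rw [map_smul, LinearMap.BilinForm.smul_left_of_tower] at haa
    simp at haa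
    exact ha (by rw [haa.resolve_right hff, zero_smul])
  have hfb₀' : B D f b₀ = 0 := hfb₀ f (Submodule.mem_span_singleton_self f)
  set b := b₀ + (-(B D b₀ b₀) / 2) • a with hb
  have hab : B D a b = 1 := by rw [hb, map_add, map_smul, hab₀, haa, smul_zero, add_zero]
  have hbb : B D b b = 0 := by
    simp only [hb, map_add, map_smul, LinearMap.add_apply, LinearMap.smul_apply, haa, swap D a b₀, hab₀, smul_eq_mul]
    field_simp
    ring
  have hfb : B D f b = 0 := by rw [hb, map_add, map_smul, hfb₀', hfa, smul_zero, add_zero]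
  set p := f + (a - (α / 2) • b) with hp
  set p' := f - (a - (α / 2) • b) with hp'
  have haf : B D a f = 0 := refl' D _ _ hfa
  have hbf : B D b f = 0 := refl' D _ _ hfb
  have hba : B D b a = 1 := by rw [swap, hab]
  have hpp : B D p p = 0 := by
    simp [hp, haa, hbb, hab, hba, hfa, haf, hfb, hbf, ← hα]
    field_simp
    ring
  have hp'p' : B D p' p' = 0 := by
    simp [hp', haa, hbb, hab, hba, hfa, haf, hfb, hbf, ← hα]
    field_simp
    ring
  have hαF : ((α : D.F₀) : F) ≠ 0 := fun e => hff (Subtype.ext e)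
  have h2c : ((2 : D.F₀) : F) = 2 := map_ofNat D.F₀.subtype 2
  have hαq : (α : F) ^ q = α := pow_q_coe D α
  have hqu : ∀ (m : F), m ^ q = m → ((u * m) : F) + (u * m) ^ q = 0 := fun m hm => by
    rw [mul_pow, hus, hm]; ring
  set c := (2 / (α : F)) * ((1 + ξ) / (1 - ξ)) with hc
  have hcu : c = u * (-2 / ((α : F) * (u * u))) := by
    have h3 : 1 - ξ = -(2 * u) / (1 - u) := by rw [hξ]; field_simp; ring
    rw [hc, h3, hξ]
    field_simp
    ring
  have hqH : ∀ {x : F}, x ^ q = x → HermStd.qHom hF x = x := fun h => h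
  have huu : (u * u) ^ q = u * u := by rw [mul_pow, hus, neg_mul_neg]
  have h2q : (2 : F) ^ q = 2 := by rw [← HermStd.qHom_apply hF, map_ofNat]
  have hc_skew : c + c ^ q = 0 := by
    rw [hcu]
    refine hqu _ ?_
    rw [← HermStd.qHom_apply hF, map_div₀, map_neg, map_mul, map_ofNat, HermStd.qHom_apply, HermStd.qHom_apply,
      hαq, huu]
  set c1 := u / (2 * (α : F)) with hc1
  set c2 := u / ((α : F) * (1 - u * u)) with hc2
  have hc1_skew : c1 + c1 ^ q = 0 := by
    rw [hc1, div_eq_mul_inv]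
    refine hqu _ ?_
    rw [inv_pow, mul_pow, h2q, hαq]
  have h1uu : 1 - u * u ≠ 0 := by
    rw [show 1 - u * u = (1 - u) * (1 + u) by ring]; exact mul_ne_zero hu1 hu1'
  have h1uu' : 1 - u ^ 2 ≠ 0 := by rwa [sq]
  have hc2_skew : c2 + c2 ^ q = 0 := by
    rw [hc2, div_eq_mul_inv]
    refine hqu _ ?_
    rw [inv_pow, mul_pow, hαq, ← HermStd.qHom_apply hF, map_sub, map_one, HermStd.qHom_apply, huu]
  obtain ⟨T1, -, hT1⟩ := Unitary.exists_tv hF (hH0 D hpp) hc1_skew
  obtain ⟨T2, -, hT2⟩ := Unitary.exists_tv hF (hH0 D hp'p') hc2_skew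
  obtain ⟨T0, -, hT0⟩ := Unitary.exists_tv hF (hH0 D haa) hc_skew
  have mT1 : T1 ∈ M := (hrc p hpp).2 T1 c1 hc1_skew hT1
  have mT2 : T2 ∈ M := (hrc p' hp'p').2 T2 c2 hc2_skew hT2
  have mT0 : T0 ∈ M := (hrc a haa).2 T0 c hc_skew hT0
  set h := T1 * T2 * T1 * T0 with hh
  have mh : h ∈ M := mul_mem (mul_mem (mul_mem mT1 mT2) mT1) mT0
  have rp : rv D p = rv D f + (rv D a - ((α : F) / 2) • rv D b) := by
    rw [hp, rv_add, rv_sub, rv_smul]; push_cast; rw [h2c]
  have rp' : rv D p' = rv D f - (rv D a - ((α : F) / 2) • rv D b) := by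
    rw [hp', rv_sub, rv_sub, rv_smul]; push_cast; rw [h2c]
  have haq : ((α : F) / 2) ^ q = (α : F) / 2 := by rw [div_pow, hαq, h2q]
  have hhf : (h : Matrix Idx Idx F) *ᵥ rv D f = ξ • rv D f := by
    simp only [hh, Max.mulVec_mul_GL, hT0, hT1, hT2, rp, rp', H_add_left, H_add_right hF, H_sub_left,
      H_sub_right hF, H_smul_left, H_smul_right, haq, hB, haa, hbb, hab, hba, hfa, haf, hfb, hbf, ← hα]
    simp only [hc1, hc2, hξ, ZeroMemClass.coe_zero, OneMemClass.coe_one]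
    match_scalars <;> field_simp <;> ring
  set lam := (4 : F) / ((α : F) * (1 - ξ)) with hlam
  have hhb : (h : Matrix Idx Idx F) *ᵥ rv D b = lam • rv D a := by
    simp only [hh, Max.mulVec_mul_GL, hT0, hT1, hT2, rp, rp', H_add_left, H_add_right hF, H_sub_left,
      H_sub_right hF, H_smul_left, H_smul_right, haq, hB, haa, hbb, hab, hba, hfa, haf, hfb, hbf, ← hα]
    have h3 : 1 - ξ = -(2 * u) / (1 - u) := by rw [hξ]; field_simp; ring
    simp only [hlam, h3, hcu, hc1, hc2, ZeroMemClass.coe_zero, OneMemClass.coe_one]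
    match_scalars <;> field_simp <;> ring
  set μ := lam ^ q * ξ with hμ
  have hbq : ∀ t : D.F₀, B D (t • f) b = 0 := fun t => by simp [hfb]
  have hSμ : ∀ t : D.F₀, SubfieldUnitary.Sg q M (rv D a) (((t : F) * μ) • rv D f) := fun t => by
    have h0 := OrthInUnitary.sg0_map hF (hH0 D hbb) C.hMK (C.sg hbb (hbq t)) mh
    rw [hhb, rv_smul, mulVec_smul, hhf, smul_smul] at h0
    obtain ⟨-, g, hg, hgx⟩ := h0
    refine ⟨by rw [H_smul_left, hB, hfa]; simp, g, hg,
      -(H (((t : F) * ξ) • rv D f) (((t : F) * ξ) • rv D f) / 2) * (lam * lam ^ q), fun x => ?_⟩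
    rw [hgx]
    simp only [H_smul_right, hμ, mul_pow, pow_qq hF, smul_smul]
    match_scalars <;> ring
  have hSR : ∀ t : D.F₀, SubfieldUnitary.Sg q M (rv D a) ((t : F) • rv D f) := fun t => by
    obtain ⟨h1, s, hs, hsx⟩ := C.sg haa (w := t • f) (by simp [hfa])
    rw [← rv_smul]
    exact ⟨h1, s, hs, _, hsx⟩
  have hμF : μ ^ q - μ ≠ 0 := by
    intro e
    have hξq : ξ ^ q = (1 - u) / (1 + u) := by
      rw [hξ, ← HermStd.qHom_apply hF, map_div₀, map_add, map_sub, map_one, HermStd.qHom_apply, hus]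
      ring
    have hlq : lam ^ q = 4 / ((α : F) * (1 - ξ ^ q)) := by
      rw [hlam, ← HermStd.qHom_apply hF, map_div₀, map_mul, map_sub, map_one, map_ofNat, HermStd.qHom_apply,
        HermStd.qHom_apply, hαq]
    have h1 : 1 - ξ = -(2 * u) / (1 - u) := by rw [hξ]; field_simp; ring
    have h3 : 1 - (1 - u) / (1 + u) = 2 * u / (1 + u) := by field_simp; ring
    rw [hμ, mul_pow, pow_qq hF, hlq, hξq, hlam, h1, h3, hξ] at e
    field_simp at e
    refine hu3 ((mul_eq_zero.1 (show (2 * 2 * 2 : F) * (1 + 3 * (u * u)) = 0 by linear_combination -e)).resolve_left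
      (mul_ne_zero (mul_ne_zero h2 h2) h2))
  set k1 := (k ^ q - k) / (μ ^ q - μ) with hk1
  have hk1q : k1 ^ q = k1 := by
    rw [hk1, ← HermStd.qHom_apply hF ((k ^ q - k) / (μ ^ q - μ)), map_div₀, map_sub, map_sub,
      ← HermStd.qHom_apply hF k, ← HermStd.qHom_apply hF μ, HermStd.qHom_qHom, HermStd.qHom_qHom,
      ← neg_sub (HermStd.qHom hF k) k, ← neg_sub (HermStd.qHom hF μ) μ, neg_div_neg_eq]
  have hk0q : (k - k1 * μ) ^ q = k - k1 * μ := by
    have h1 : k1 * (μ ^ q - μ) = k ^ q - k := div_mul_cancel₀ _ hμF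
    rw [← HermStd.qHom_apply hF, map_sub, map_mul, HermStd.qHom_apply, HermStd.qHom_apply, HermStd.qHom_apply, hk1q]
    linear_combination -h1
  have := SubfieldUnitary.sg_add hF (hH0 D haa) (hSR ⟨k - k1 * μ, (fix_iff D _).2 hk0q⟩)
    (hSμ ⟨k1, (fix_iff D _).2 hk1q⟩)
  rw [← add_smul, show (k - k1 * μ) + k1 * μ = k by ring] at this
  exact this

theorem all_directions (C : Ctx D M) (hrc : ∀ a, B D a a = 0 → rv D a ∈ Unitary.centres q M)
    {a : Idx → D.F₀} (haa : B D a a = 0) (ha : a ≠ 0) {w : Idx → D.F₀} (hwa : B D w a = 0) (k : F) :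
    SubfieldUnitary.Sg q M (rv D a) (k • rv D w) := by
  by_cases hww : B D w w = 0
  swap
  · exact directions C hrc haa ha hwa hww k
  have h20 := two_ne' D
  obtain ⟨b, hab, hbb⟩ := exists_partner' D ha haa
  obtain ⟨f, haf, -, hff⟩ := exists_aniso_perp D haa hbb (by rw [hab]; exact one_ne_zero)
  have hfa : B D f a = 0 := refl' D _ _ haf
  obtain ⟨t, ht⟩ : ∃ t : D.F₀, B D (w + t • f) (w + t • f) ≠ 0 := by
    by_contra hc
    push Not at hc
    have e1 := hc 1
    have e2 := hc (-1)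
    simp only [map_add, map_smul, LinearMap.add_apply, LinearMap.smul_apply, smul_eq_mul, hww, swap D w f] at e1 e2
    exact hff ((mul_eq_zero.1 (show (2 : D.F₀) * B D f f = 0 by linear_combination e1 + e2)).resolve_left h20)
  have h1 := directions C hrc haa ha (f := w + t • f) (by simp [hwa, hfa]) ht k
  have h3 := SubfieldUnitary.sg_neg D.hF (hH0 D haa) (directions C hrc haa ha hfa hff (k * (t : F)))
  have := SubfieldUnitary.sg_add D.hF (hH0 D haa) h1 h3
  rwa [rv_add, rv_smul, smul_add, smul_smul, add_neg_cancel_right] at this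

theorem exists_irr (C : Ctx D M) {g : GLn} (hgM : g ∈ M)
    (hg : ¬ ∃ k : F, k ≠ 0 ∧ ∀ a : Idx → D.F₀, ∃ b : Idx → D.F₀,
      k • ((g : Matrix Idx Idx F) *ᵥ rv D a) = rv D b) : ∃ v, Img D M v ∧ Irr D v := by
  by_contra hline
  push Not at hline
  refine hg ?_
  have h20 := two_ne' D
  have hline' : ∀ a, B D a a = 0 → ∃ (l : F) (y : Idx → D.F₀), (g : Matrix Idx Idx F) *ᵥ rv D a = l • rv D y := by
    intro a haa
    rcases eq_or_ne a 0 with rfl | ha
    · exact ⟨0, 0, by rw [rv_zero, mulVec_zero, smul_zero]⟩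
    · have := hline _ ⟨g, hgM, a, ha, haa, rfl⟩
      simpa [Irr] using this
  choose lam y hy using hline'
  have hne : ∀ a (h : B D a a = 0), a ≠ 0 → lam a h ≠ 0 := fun a h ha e =>
    Max.mulVec_ne_zero g (fun e => ha (rv_eq_zero D e)) (by rw [hy a h, e, zero_smul])
  have hprod : ∀ a b (h : B D a a = 0) (h' : B D b b = 0), B D a b ≠ 0 → lam a h * lam b h' ^ q ∈ D.F₀ :=
    fun a b h h' hab => by
      have e := C.map_H hgM (rv D a) (rv D b)
      rw [hy a h, hy b h', H_smul_left, H_smul_right, ← mul_assoc, hB, hB] at e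
      have hy0 : ((B D (y a h) (y b h') : D.F₀) : F) ≠ 0 :=
        fun e0 => hab (Subtype.ext (by rw [← e, e0, mul_zero]; rfl))
      rw [(eq_div_iff hy0).2 e]
      exact D.F₀.div_mem (B D a b).2 (B D _ _).2
  obtain ⟨a₁, ha₁, ha₁₁⟩ := exists_sing D
  refine ⟨(lam a₁ ha₁₁)⁻¹, inv_ne_zero (hne _ _ ha₁), ?_⟩
  let T : Submodule D.F₀ (Idx → D.F₀) :=
    { carrier := {x | ∃ b : Idx → D.F₀, (lam a₁ ha₁₁)⁻¹ • ((g : Matrix Idx Idx F) *ᵥ rv D x) = rv D b}
      zero_mem' := ⟨0, by rw [rv_zero, mulVec_zero, smul_zero]⟩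
      add_mem' := fun {x x'} ⟨b, hb⟩ ⟨b', hb'⟩ => ⟨b + b', by rw [rv_add, mulVec_add, smul_add, hb, hb', rv_add]⟩
      smul_mem' := fun t x ⟨b, hb⟩ => ⟨t • b, by rw [rv_smul, mulVec_smul, smul_comm, hb, rv_smul]⟩ }
  have hTiso : ∀ x, B D x x = 0 → x ∈ T := by
    intro x hxx
    rcases eq_or_ne x 0 with rfl | hx
    · exact T.zero_mem
    by_cases hxa : B D x a₁ = 0
    swap
    · have h1 := D.F₀.div_mem (hprod x a₁ hxx ha₁₁ hxa) (show lam a₁ ha₁₁ * lam a₁ ha₁₁ ^ q ∈ D.F₀ by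
        rw [fix_iff, mul_pow, pow_qq D.hF, mul_comm])
      rw [mul_div_mul_right _ _ (pow_ne_zero q (hne _ _ ha₁))] at h1
      exact ⟨(⟨_, h1⟩ : D.F₀) • y x hxx, by rw [rv_smul, hy x hxx, smul_smul]; congr 1; show _ = _ / _; ring⟩
    obtain ⟨z, hzz, hzx, hza⟩ := exists_third D hx hxx ha₁ ha₁₁ hxa
    have hz0 : z ≠ 0 := fun e => hzx (by rw [e, map_zero])
    have h1 := D.F₀.div_mem (hprod x z hxx hzz hzx) (hprod a₁ z ha₁₁ hzz hza)
    rw [mul_div_mul_right _ _ (pow_ne_zero q (hne z hzz hz0))] at h1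
    exact ⟨(⟨_, h1⟩ : D.F₀) • y x hxx, by rw [rv_smul, hy x hxx, smul_smul]; congr 1; show _ = _ / _; ring⟩
  obtain ⟨e, -, hae⟩ := dual D a₁ ⊥ (by simpa using ha₁)
  have hkey : ∀ x, B D a₁ x ≠ 0 → x ∈ T := fun x hx => by
    have h1 := hTiso (x + (-(B D x x) / (2 * B D a₁ x)) • a₁) (by
      simp only [map_add, map_smul, LinearMap.add_apply, LinearMap.smul_apply, ha₁₁, swap D a₁ x, smul_eq_mul]
      field_simp
      ring)
    simpa using T.sub_mem h1 (T.smul_mem (-(B D x x) / (2 * B D a₁ x)) (hTiso a₁ ha₁₁))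
  intro x
  by_cases hx : B D a₁ x = 0
  · have := T.sub_mem (hkey (x + e) (by rw [map_add, hx, hae, zero_add]; exact one_ne_zero))
      (hkey e (by rw [hae]; exact one_ne_zero))
    rwa [add_sub_cancel_right] at this
  · exact hkey x hx

theorem top_of_root (C : Ctx D M) {a₀ : Idx → D.F₀} (ha₀ : a₀ ≠ 0) (ha₀₀ : B D a₀ a₀ = 0) {c₀ : F}
    (hc₀s : c₀ + c₀ ^ q = 0) (hc₀0 : c₀ ≠ 0) (hT₀ : InM q M (rv D a₀) c₀) : SUn ≤ M := by
  have hF := D.hF
  have h2 := two_ne D
  have h20 := two_ne' D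
  set θ := th D
  have hθ0 : θ ≠ 0 := th_ne D
  have hθs : θ + θ ^ q = 0 := th_skew D
  have hθq : θ ^ q = -θ := th_q D
  have hskew : ∀ k ∈ D.F₀, k * θ + (k * θ) ^ q = 0 := fun k hk => by
    rw [mul_pow, (fix_iff D k).1 hk, ← mul_add, hθs, mul_zero]
  let K : (Idx → D.F₀) → F → Prop := fun a k => k ∈ D.F₀ ∧ InM q M (rv D a) (k * θ)
  have htrans : ∀ x y, B D x x = 0 → B D y y = 0 → x ≠ 0 → y ≠ 0 → ∀ k, K x k → K y k := by
    intro x y hxx hyy hx hy k hk
    obtain ⟨s, hs, hsx⟩ := C.move hxx hyy hx hy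
    exact ⟨hk.1, hsx ▸ inM_map hF C.hMK hs (hH0 D hxx) (hskew k hk.1) hk.2⟩
  have hKall : ∀ k ∈ D.F₀, ∀ a, B D a a = 0 → InM q M (rv D a) (k * θ) := by
    intro k hk a haa
    rcases eq_or_ne a 0 with rfl | ha
    · rw [rv_zero]; exact inM_zero
    have hc' : c₀ / θ ∈ D.F₀ := by
      rw [fix_iff, div_pow, eq_neg_of_add_eq_zero_right hc₀s, hθq, neg_div_neg_eq]
    have hd : K a (c₀ / θ) := htrans a₀ a ha₀₀ haa ha₀ ha _ ⟨hc', by rwa [div_mul_cancel₀ _ hθ0]⟩
    set d := c₀ / θ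
    have hd0 : d ≠ 0 := div_ne_zero hc₀0 hθ0
    have hsq : ∀ m ∈ D.F₀, ∀ l, K a l → K a (m * m * l) := by
      intro m hm l hl
      refine ⟨mul_mem (mul_mem hm hm) hl.1, ?_⟩
      rcases eq_or_ne m 0 with rfl | hm0
      · simp only [zero_mul]; exact inM_coeff_zero
      have h1 := (htrans a ((⟨m, hm⟩ : D.F₀) • a) haa (by simp [haa]) ha
        (smul_ne_zero (fun e => hm0 (congrArg Subtype.val e)) ha) l hl).2
      intro s hs
      refine h1 s fun x => ?_
      rw [hs, rv_smul, H_smul_right, smul_smul]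
      congr 2
      show _ = l * θ * (m ^ q * H x (rv D a)) * m
      rw [(fix_iff D m).1 hm]; ring
    have hadd : ∀ l l', K a l → K a l' → K a (l + l') := fun l l' hl hl' =>
      ⟨add_mem hl.1 hl'.1, by
        rw [add_mul]; exact inM_add hF (hH0 D haa) (hskew l hl.1) (hskew l' hl'.1) hl.2 hl'.2⟩
    have hneg : ∀ l, K a l → K a (-l) := fun l hl =>
      ⟨neg_mem hl.1, by rw [neg_mul]; exact SubfieldUnitary.inM_neg hF (hH0 D haa) (hskew l hl.1) hl.2⟩
    set m := k / d / 2 with hm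
    have h2F : (2 : F) ∈ D.F₀ := by
      rw [show (2 : F) = 1 + 1 by norm_num]; exact add_mem (one_mem _) (one_mem _)
    have hmF : m ∈ D.F₀ := D.F₀.div_mem (D.F₀.div_mem hk hc') h2F
    have h1 := hadd _ _ (hadd _ _ (hsq (m + 1) (add_mem hmF (one_mem _)) d hd) (hneg _ (hsq m hmF d hd))) (hneg _ hd)
    have e : (m + 1) * (m + 1) * d + -(m * m * d) + -d = k := by
      rw [hm]; field_simp; ring
    exact (e ▸ h1).2
  have hrc : ∀ a, B D a a = 0 → rv D a ∈ Unitary.centres q M := fun a haa =>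
    ⟨hH0 D haa, fun s c hc hs => hKall (c / θ) (by
      rw [fix_iff, div_pow, eq_neg_of_add_eq_zero_right hc, hθq, neg_div_neg_eq]) a haa s fun x => by
        rw [div_mul_cancel₀ _ hθ0]; exact hs x⟩
  refine Unitary.SUn_le_of_centres hF le_rfl fun v hv => ?_
  by_cases hv0 : v = 0
  · rw [hv0, ← zero_smul F (rv D a₀)]
    exact Unitary.centres_smul hF 0 (hrc a₀ ha₀₀)
  obtain ⟨a, ha, haa, hva⟩ : ∃ a, a ≠ 0 ∧ B D a a = 0 ∧ H v (rv D a) ≠ 0 := by
    by_contra hc
    push Not at hc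
    refine hv0 (rat_ext D ?_)
    obtain ⟨e, -, hae⟩ := dual D a₀ ⊥ (by simpa using ha₀)
    have hk : ∀ x, B D a₀ x ≠ 0 → H v (rv D x) = 0 := fun x hx => by
      set c := -(B D x x) / (2 * B D a₀ x) with hc'
      have hne : x + c • a₀ ≠ 0 := fun e0 => hx (by simpa [ha₀₀] using congrArg (B D a₀) e0)
      have h1 := hc _ hne (by
        simp only [map_add, map_smul, LinearMap.add_apply, LinearMap.smul_apply, ha₀₀, swap D a₀ x, smul_eq_mul,
          hc']
        field_simp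
        ring)
      rw [rv_add, rv_smul, H_add_right hF, H_smul_right, hc a₀ ha₀ ha₀₀, mul_zero, add_zero] at h1
      exact h1
    intro t
    by_cases ht : B D a₀ t = 0
    · have h1 := hk (t + e) (by rw [map_add, ht, hae, zero_add]; exact one_ne_zero)
      rwa [rv_add, H_add_right hF, hk e (by rw [hae]; exact one_ne_zero), add_zero] at h1
    · exact hk t ht
  obtain ⟨b, hab, hbb⟩ := exists_partner' D ha haa
  have hba' : H (rv D b) (rv D a) = 1 := by rw [hB, swap, hab]; rfl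
  set v' := (H v (rv D a))⁻¹ • v with hv'
  have hv'a : H v' (rv D a) = 1 := by rw [hv', H_smul_left, inv_mul_cancel₀ hva]
  have hav' : H (rv D a) v' = 1 := by rw [← H_conj hF, hv'a, one_pow]
  have hv'v' : H v' v' = 0 := by rw [hv', H_smul_left, H_smul_right, hv, mul_zero, mul_zero]
  obtain ⟨p, p', hpp⟩ := dec D (v' - rv D b)
  have hpa : B D p a = 0 ∧ B D p' a = 0 := by
    have h := congrArg (fun y => H y (rv D a)) hpp
    simp only [H_sub_left, hv'a, hba', sub_self, H_add_left, H_smul_left, hB] at h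
    exact split_eq_zero D h.symm
  have hraa := hH0 D haa
  obtain ⟨-, s, hs, β, hsx⟩ := SubfieldUnitary.sg_add hF hraa (all_directions C hrc haa ha hpa.1 1)
    (all_directions C hrc haa ha hpa.2 θ)
  rw [one_smul, ← hpp] at hsx
  have hc := Unitary.centres_map hF C.hMK hs (hrc b hbb)
  set γ := -H (rv D b) (v' - rv D b) + β * 1 with hγ
  have e : (s : Matrix Idx Idx F) *ᵥ rv D b = v' + γ • rv D a := by
    rw [hsx, hba', one_smul, add_sub_cancel, ← hγ]
  rw [e] at hc
  have hγs : γ + γ ^ q = 0 := by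
    have h := hc.1
    simp only [H_add_left, H_add_right hF, H_smul_left, H_smul_right, hv'v', hv'a, hav', hraa, mul_zero, mul_one,
      add_zero, zero_add] at h
    linear_combination h
  have hγs' : (-γ) + (-γ) ^ q = 0 := by
    rw [← HermStd.qHom_apply hF, map_neg, HermStd.qHom_apply]; linear_combination -hγs
  obtain ⟨t, -, htx⟩ := Unitary.exists_tv hF hraa hγs'
  have := Unitary.centres_map hF C.hMK ((hrc a haa).2 t _ hγs' htx) hc
  have e2 : H (v' + γ • rv D a) (rv D a) = 1 := by rw [H_add_left, hv'a, H_smul_left, hraa, mul_zero, add_zero]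
  rw [htx, e2, mul_one, neg_smul, add_neg_cancel_right] at this
  have := Unitary.centres_smul hF (H v (rv D a)) this
  rwa [hv', smul_smul, mul_inv_cancel₀ hva, one_smul] at this

/-- the real orthogonal groups are maximal in the unitary group of dimension four -/
theorem maximal (D : Data F q 4) (h5 : 5 ≤ q) :
    Cfsg.Geo.IsMaximalIn SUn (Cfsg.Geo.subfieldSubgroup D.F₀ D.P ⊓ SUn) := by
  classical
  have hF := D.hF
  have hmem : ∀ g : GLn, g ∈ Cfsg.Geo.subfieldSubgroup D.F₀ D.P ↔ ∃ k : F, k ≠ 0 ∧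
      ∀ a : Idx → D.F₀, ∃ b : Idx → D.F₀, k • ((g : Matrix Idx Idx F) *ᵥ rv D a) = rv D b :=
    fun g => SubfieldMem.mem_subfieldSubgroup D.F₀ D.P g
  refine isMaximalIn_of inf_le_right (fun hle => ?_) fun M hM hMK g hgM hg => ?_
  · obtain ⟨a, ha, haa⟩ := exists_sing D
    obtain ⟨e, -, hae⟩ := dual D a ⊥ (by simpa using ha)
    obtain ⟨s, hs, hsx⟩ := Unitary.exists_tv hF (hH0 D haa) (th_skew D)
    obtain ⟨k, hk, hkF⟩ := (hmem s).1 (hle hs).1
    obtain ⟨b, hb⟩ := hkF a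
    rw [hsx, hH0 D haa, mul_zero, zero_smul, add_zero] at hb
    have hae' : H (rv D a) (rv D e) = 1 := by rw [hB, hae]; rfl
    have hk' : k ∈ D.F₀ := by
      have := congrArg (fun v => H v (rv D e)) hb
      simp only [H_smul_left, hae', mul_one] at this
      rw [this]; exact hrat D b e
    obtain ⟨b', hb'⟩ := hkF e
    rw [hsx, show H (rv D e) (rv D a) = 1 by rw [hB, swap, hae]; rfl, mul_one] at hb'
    have h3 := congrArg (fun v => H v (rv D e)) hb'
    simp only [H_smul_left, H_add_left, hae'] at h3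
    refine th_not_mem D ?_
    rw [show th D = (H (rv D b') (rv D e) - k * H (rv D e) (rv D e)) / k by
      rw [eq_div_iff hk, ← h3]; ring]
    exact D.F₀.div_mem (sub_mem (hrat D _ _) (mul_mem hk' (hrat D _ _))) hk'
  have C : Ctx D M := ⟨hMK, fun s hs h => hM ⟨(hmem s).2 ⟨1, one_ne_zero, fun a => by
    obtain ⟨b, hb⟩ := h a
    exact ⟨b, by rw [one_smul, hb]⟩⟩, hs⟩⟩
  obtain ⟨v, hv, hirr⟩ := exists_irr C hgM (fun h => hg ⟨(hmem g).2 h, hMK hgM⟩)
  by_cases hN : NoRoot D M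
  · exact (no_noRoot C h5 hN hv hirr).elim
  · simp only [NoRoot] at hN
    push Not at hN
    obtain ⟨a₀, c₀, ha₀, ha₀₀, hc₀s, hT₀, hc₀0⟩ := hN
    exact top_of_root C ha₀ ha₀₀ hc₀s hc₀0 hT₀

/-- conjunct (8) of S5783 -/
theorem conjunct_eight {F : Type*} [Field F] [Fintype F] (q : ℕ) (hF : Fintype.card F = q ^ 2) :
    Odd q → 5 ≤ q → ∀ (F₀ : Subfield F) (P : Matrix.GeneralLinearGroup (Fin 4) F), Fintype.card F = Nat.card F₀ ^ 2 → Cfsg.Geo.IsFormRationalStructure (Cfsg.hermForm 4 F q) F₀ 1 P → Cfsg.Geo.IsMaximalIn (Cfsg.GU 4 F q ⊓ Cfsg.Geo.specialLinear (Fin 4) F) (Cfsg.Geo.subfieldSubgroup F₀ P ⊓ (Cfsg.GU 4 F q ⊓ Cfsg.Geo.specialLinear (Fin 4) F)) :=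
  fun hodd h5 F₀ P hcard hP => maximal ⟨F₀, P, hF, hodd, hcard, hP⟩ h5

end Cfsg.Agent.Forms.Max.SU4.Orth
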