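import Mathlib
import Cfsg.Prelude.Def_GeometricClasses
import Cfsg.Agent.Lib.Forms.Max.SubfieldUnitary
import Cfsg.Agent.Lib.Forms.Max.SubfieldMem

/-!
# Subfield groups of odd prime index are maximal in the unitary group, dimension at least four
-/

set_option autoImplicit false
open Cfsg

namespace Cfsg.Agent.Forms.Max.SU4.Subfield

theorem subfield_group_maximal_of_four_le {F : Type*} [Field F] [Fintype F] (n q : ℕ) (hn : 4 ≤ n) (hF : Fintype.card F = q ^ 2) (F₀ : Subfield F) (r : ℕ) (P : Matrix.GeneralLinearGroup (Fin n) F) (hr : r.Prime) (hro : Odd r) (hcard : Fintype.card F = Nat.card F₀ ^ r) (hP : Cfsg.Geo.IsFormRationalStructure (Cfsg.hermForm n F q) F₀ 1 P) : Cfsg.Geo.IsMaximalIn (Cfsg.GU n F q ⊓ Cfsg.Geo.specialLinear (Fin n) F) (Cfsg.Geo.subfieldSubgroup F₀ P ⊓ (Cfsg.GU n F q ⊓ Cfsg.Geo.specialLinear (Fin n) F)) := by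
  classical
  let D : Forms.Max.SubfieldUnitary.Data F q n := ⟨F₀, P, hF, hn, r, hr, hro, hcard, hP⟩
  exact Forms.Max.SubfieldUnitary.subfield_maximal D _ inf_le_right
    (fun g hg h => ⟨(Forms.Max.SubfieldMem.mem_subfieldSubgroup F₀ P g).2 h, hg⟩)
    (fun g hg => (Forms.Max.SubfieldMem.mem_subfieldSubgroup F₀ P g).1 hg.1)

/-- conjunct (6) of S5783 -/
theorem conjunct_six {F : Type*} [Field F] [Fintype F] (q : ℕ) (hF : Fintype.card F = q ^ 2) : ∀ (F₀ : Subfield F) (r : ℕ) (P : Matrix.GeneralLinearGroup (Fin 4) F), r.Prime → Odd r → Fintype.card F = Nat.card F₀ ^ r → Cfsg.Geo.IsFormRationalStructure (Cfsg.hermForm 4 F q) F₀ 1 P → Cfsg.Geo.IsMaximalIn (Cfsg.GU 4 F q ⊓ Cfsg.Geo.specialLinear (Fin 4) F) (Cfsg.Geo.subfieldSubgroup F₀ P ⊓ (Cfsg.GU 4 F q ⊓ Cfsg.Geo.specialLinear (Fin 4) F)) :=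
  fun F₀ r P => subfield_group_maximal_of_four_le 4 q le_rfl hF F₀ r P

end Cfsg.Agent.Forms.Max.SU4.Subfield
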