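import Cfsg.Agent.Lib.Forms.Max.SympInUnitary
import Cfsg.Agent.Lib.Forms.Max.SubfieldMem

/-!
# Symplectic subfield subgroups of four dimensional unitary groups
-/

set_option autoImplicit false

namespace Cfsg.Agent.Forms.Max.SU4.Symp

/-- subfield subgroups of symplectic type are maximal in `SU_4(q)` -/
theorem maximal {F : Type*} [Field F] [Fintype F] (q : ℕ) (hF : Fintype.card F = q ^ 2) :
    ∀ (F₀ : Subfield F) (P : Matrix.GeneralLinearGroup (Fin 4) F) (ζ : F), Fintype.card F = Nat.card F₀ ^ 2 → ζ ≠ 0 → ζ + ζ ^ q = 0 → Cfsg.Geo.IsFormRationalStructure (Cfsg.hermForm 4 F q) F₀ ζ P → (∀ u : Fin 4 → F, (∀ i, u i ∈ F₀) → (Cfsg.hermForm 4 F q) (Matrix.mulVec (P : Matrix (Fin 4) (Fin 4) F) u) (Matrix.mulVec (P : Matrix (Fin 4) (Fin 4) F) u) = 0) → Cfsg.Geo.IsMaximalIn (Cfsg.GU 4 F q ⊓ Cfsg.Geo.specialLinear (Fin 4) F) (Cfsg.Geo.subfieldSubgroup F₀ P ⊓ (Cfsg.GU 4 F q ⊓ Cfsg.Geo.specialLinear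 (Fin 4) F)) := by
  intro F₀ P ζ hcard hζ0 hζ hP halt
  classical
  exact SympInUnitary.symp_in_unitary_maximal F₀ P hF le_rfl hcard hζ0 hζ hP halt _ inf_le_right
    (fun g hg h => ⟨(SubfieldMem.mem_subfieldSubgroup F₀ P g).2 h, hg⟩)
    (fun g hg => (SubfieldMem.mem_subfieldSubgroup F₀ P g).1 hg.1)

end Cfsg.Agent.Forms.Max.SU4.Symp
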