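import Cfsg.Agent.S0303
import Cfsg.Agent.Lib.Forms.Max.SL4.SympTypeFrame

/-!
# The special unitary group of degree four over a prime field congruent to three modulo four

Its image in the orthogonal group of minus type in dimension six, with the frame of six vectors of value one.
-/

set_option autoImplicit false
set_option linter.unusedSectionVars false

namespace Cfsg.Agent.Forms.Max.SU4.SympFrame

open Matrix Cfsg.Agent.Classical Cfsg.Agent.Classical.OrthForms Cfsg.Agent.Classical.Orth Cfsg.Agent.Forms Cfsg.Agent.Forms.Reflections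
open Cfsg.Agent.Classical.Unitary (mat)
open SL4.SympType (fvec frame frame_value frame_orth frame_span)

variable {F : Type*} [Field F] [Fintype F] {p : ℕ} [hp : Fact p.Prime]

/-- minus one is not a square -/
theorem anisotropic (hp4 : p % 4 = 3) :
    ∀ z₁ z₂ : ZMod p, z₁ ^ 2 + 0 * z₁ * z₂ + 1 * z₂ ^ 2 = 0 → z₁ = 0 ∧ z₂ = 0 := by
  intro a b h
  have h' : a ^ 2 = -b ^ 2 := by linear_combination h
  by_cases hb : b = 0
  · subst hb
    exact ⟨eq_zero_of_pow_eq_zero (n := 2) (by linear_combination h'), rfl⟩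
  · exact absurd hp4 (ZMod.exists_sq_eq_neg_one_iff.1 ⟨a / b, by
      rw [div_mul_div_comm, ← sq, ← sq, h', neg_div, div_self (pow_ne_zero _ hb)]⟩)

theorem isFixed_fvec (hK : Fintype.card F = p ^ 2) {i : F} (hip : i ^ p = -i) (k : Fin 6) :
    S0303.IsFixed p (fvec i k) := by
  intro l
  have hneg : ∀ x : F, (-x) ^ p = -(x ^ p) := fun x => by
    rw [← HermStd.qHom_apply hK, map_neg, HermStd.qHom_apply]
  fin_cases k <;> fin_cases l <;> simp [Wedge.dual, fvec, hip, hneg, zero_pow hp.out.ne_zero]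

theorem klein_pf (w : Fin 3 ⊕ Fin 3 → F) : PlusStd.plusQ F 3 w = Wedge.pf (SL4.Klein.klein w) := by
  simp [PlusStd.plusQ_apply, Cfsg.quadFormPlus, Fin.sum_univ_three, Wedge.pf, SL4.Klein.klein]

set_option maxHeartbeats 1000000 in
/-- the image and the frame -/
theorem exists_hom (hK : Fintype.card F = p ^ 2) (hp4 : p % 4 = 3) {i : F} (hi : i * i = -1) (hip : i ^ p = -i) :
    ∃ (φ : Cfsg.SU 4 F p →* Cfsg.isometryGroup (ZMod p) ⇑(minQ (ZMod p) 2 0 1))
      (e : Fin 6 → ((Fin 2 ⊕ Fin 2) ⊕ Fin 2 → ZMod p)),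
      (∀ k, minQ (ZMod p) 2 0 1 (e k) = 1) ∧
      (∀ k l, k ≠ l → QuadraticMap.polar (minQ (ZMod p) 2 0 1) (e k) (e l) = 0) ∧
      Submodule.span (ZMod p) (Set.range e) = ⊤ ∧
      φ.range = Cfsg.Omega (ZMod p) ⇑(minQ (ZMod p) 2 0 1) ∧
      ∀ (g : Cfsg.SU 4 F p) (k l : Fin 6) (c : ZMod p), act (φ g) (e k) = c • e l →
        ∃ c' : F, act (SL4.Klein.hom g.1) (frame i k) = c' • frame i l := by
  classical
  have hF : Fintype.card (ZMod p) = p := ZMod.card p
  have hab := anisotropic (p := p) hp4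
  have h2K : (2 : ZMod p) ≠ 0 := fun h => by
    have h' := (ZMod.natCast_eq_zero_iff 2 p).1 (by exact_mod_cast h)
    have := Nat.le_of_dvd two_pos h'
    have := hp.out.two_le
    omega
  obtain ⟨ι, ω, hfix, -, hne, hsum, hprod⟩ := QuadExt.exists_data hF hK hab
  have h2 : (2 : F) ≠ 0 := by
    rw [← map_ofNat ι 2]; exact (map_ne_zero_iff ι ι.injective).2 h2K
  obtain ⟨u, huu, hu1, -, -⟩ := Unitary.exists_isotropic_pair hK (n := 2) 0 1 (by decide)
  obtain ⟨v, hvv, huv⟩ := Unitary.exists_partner hK (fun h => by simp [h] at hu1) huu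
  set em := S0303.emb (q := p) ι ω u v with hem
  have hinj : Function.Injective em := S0303.emb_injective hF hK ι ω hfix hne u v huu hvv huv
  have hadd : ∀ w w', em (w + w') = em w + em w' := S0303.emb_add hF hK ι ω hfix u v
  have hsmul : ∀ c w, em (c • w) = ι c • em w := S0303.emb_smul hF hK ι ω hfix u v
  have hpf : ∀ w, Wedge.pf (em w) = ι (minQ (ZMod p) 2 0 1 w) :=
    S0303.pf_emb hF hK ι ω hfix hne hsum hprod u v huu hvv huv
  choose e he using fun k => S0303.exists_emb hF hK ι ω hfix hne u v huu hvv huv (fvec i k) (isFixed_fvec hK hip k)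
  have hklein : ∀ k, SL4.Klein.klein (frame i k) = fvec i k := fun k => LinearEquiv.apply_symm_apply _ _
  have hval : ∀ k, minQ (ZMod p) 2 0 1 (e k) = 1 := fun k => ι.injective (by
    rw [map_one, ← hpf, show em (e k) = fvec i k from he k, ← hklein, ← klein_pf, frame_value hi])
  have horth : ∀ k l, k ≠ l → QuadraticMap.polar (minQ (ZMod p) 2 0 1) (e k) (e l) = 0 := fun k l hkl =>
    ι.injective (by
      rw [map_zero, QuadraticMap.polar, map_sub, map_sub, ← hpf, ← hpf, ← hpf, hadd,
        show em (e k) = fvec i k from he k, show em (e l) = fvec i l from he l, ← hklein, ← hklein, ← map_add,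
        ← klein_pf, ← klein_pf, ← klein_pf]
      exact frame_orth k l hkl)
  have hspan : Submodule.span (ZMod p) (Set.range e) = ⊤ := by
    have hli : LinearIndependent (ZMod p) e := by
      rw [Fintype.linearIndependent_iff]
      intro c hc l
      have h := congrArg (QuadraticMap.polarBilin (minQ (ZMod p) 2 0 1) (e l)) hc
      simp only [map_sum, map_smul, smul_eq_mul, QuadraticMap.polarBilin_apply_apply, map_zero] at h
      rw [Finset.sum_eq_single l (fun k _ hk => by rw [horth l k (Ne.symm hk), mul_zero])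
        (fun h => absurd (Finset.mem_univ l) h), QuadraticMap.polar_self, hval, nsmul_eq_mul, Nat.cast_ofNat,
        mul_one] at h
      exact (mul_eq_zero.1 h).resolve_right h2K
    exact hli.span_eq_top_of_card_eq_finrank (by simp)
  set φ := OrthIso.repHom (minQ (ZMod p) 2 0 1) (S0303.rep6 hF hK ι ω hfix hne u v huu hvv huv)
    (S0303.preserves hF hK ι ω hfix hne hsum hprod u v huu hvv huv) with hφ
  have hem6 : ∀ (g : Cfsg.SU 4 F p) w, em (act (φ g) w) = Wedge.wedge (mat g) (em w) := fun g w => by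
    rw [act_apply, hφ, OrthIso.repHom_mulVec]
    exact S0303.emb_act6 hF hK ι ω hfix hne u v huu hvv huv g w
  have hact : ∀ (g : Cfsg.SU 4 F p) k (c : ZMod p) l, act (φ g) (e k) = c • e l →
      act (SL4.Klein.hom g.1) (frame i k) = ι c • frame i l := fun g k c l h => by
    have h' := congrArg em h
    rw [hem6, hsmul, show em (e k) = fvec i k from he k, show em (e l) = fvec i l from he l] at h'
    rw [act_apply, SL4.Klein.hom_mulVec, hklein]
    show SL4.Klein.klein.symm (Wedge.wedge (mat g) _) = _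
    rw [h', map_smul]
    rfl
  have hker : ∀ g ∈ φ.ker, mat g = 1 ∨ mat g = -1 := by
    intro g hg
    refine SL4.Klein.of_hom_eq_one (act_ext fun x => ?_)
    have hx : x ∈ Submodule.span F (Set.range (frame i)) := by rw [frame_span h2 hi]; trivial
    induction hx using Submodule.span_induction with
    | mem w hw =>
      obtain ⟨k, rfl⟩ := hw
      rw [hact g k 1 k (by rw [MonoidHom.mem_ker.1 hg, act_one, one_smul]), map_one, one_smul, act_one]
    | zero => simp
    | add a b _ _ ha hb => rw [map_add, map_add, ha, hb]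
    | smul t a _ ha => rw [map_smul, map_smul, ha]
  have hperf : commutator (Cfsg.SU 4 F p) = ⊤ := Unitary.commutator_SU_eq_top hK (by norm_num) (by simp)
  have hle : φ.range ≤ Cfsg.Omega (ZMod p) ⇑(minQ (ZMod p) 2 0 1) :=
    OrthIso.range_le_omega _ φ fun f => OrthIso.hom_eq_one_of_perfect hperf (fun a b => by
      obtain ⟨a, rfl⟩ := QuotientGroup.mk'_surjective _ a
      obtain ⟨b, rfl⟩ := QuotientGroup.mk'_surjective _ b
      exact mul_comm (Abelianization.of a) (Abelianization.of b)) f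
  have hcard : Nat.card (Cfsg.SU 4 F p) * 2 = Nat.card (Cfsg.isometryGroup (ZMod p) ⇑(minQ (ZMod p) 2 0 1)) := by
    have h0 : Nat.card (Cfsg.isometryGroup (ZMod p) ⇑(minQ (ZMod p) 0 0 1)) = 2 * (p + 1) := by
      obtain ⟨e⟩ := S0306.result hF (0 : ZMod p) 1 hab
      rw [minQ_eq, Nat.card_congr e.toEquiv, DihedralGroup.nat_card]
    refine Nat.eq_of_mul_eq_mul_left (show 0 < p + 1 by omega) ?_
    rw [← mul_assoc, Unitary.natCard_SU_mul hK (by norm_num), Unitary.natCard_GU hK, natCard_O_min hF hab h0 2]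
    norm_num [Finset.prod_range_succ, Nat.even_iff, -Nat.card_eq_fintype_card]
    ring
  have hk2 : Nat.card φ.ker ≤ 2 := by
    refine le_trans (Nat.card_le_card_of_injective
      (fun g : φ.ker => (⟨mat (g : Cfsg.SU 4 F p) 0 0, by rcases hker g g.2 with h | h <;> simp [h]⟩ :
        {c : F // c ^ 2 = 1})) fun g h e => ?_) (OrthIso.natCard_sq_one_odd h2).le
    have e' : mat (g : Cfsg.SU 4 F p) 0 0 = mat (h : Cfsg.SU 4 F p) 0 0 := congrArg Subtype.val e
    refine Subtype.ext (Unitary.SU_ext fun x => ?_)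
    rcases hker g g.2 with a | a <;> rcases hker h h.2 with b | b <;> rw [a, b] at e' ⊢ <;>
      simp [one_add_one_eq_two, h2, eq_neg_iff_add_eq_zero, neg_eq_iff_add_eq_zero] at e'
  have hrange : φ.range = Cfsg.Omega (ZMod p) ⇑(minQ (ZMod p) 2 0 1) := by
    refine Subgroup.eq_of_le_of_card_ge hle ?_
    have h1 : Nat.card φ.range * Nat.card φ.ker = Nat.card (Cfsg.SU 4 F p) := by
      rw [← Subgroup.index_ker, mul_comm, Subgroup.card_mul_index]
    have h3 := Subgroup.card_mul_index (Cfsg.Omega (ZMod p) ⇑(minQ (ZMod p) 2 0 1))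
    rw [OrthIso.index_omega _ (minQ_nondeg 2 hab) (by simp) (Or.inr (by simp)),
      OrthIso.natCard_sq_one_odd h2K, ← hcard, ← h1] at h3
    have h4 := Nat.mul_le_mul_left (Nat.card φ.range) hk2
    omega
  exact ⟨φ, e, hval, horth, hspan, hrange, fun g k l c h => ⟨ι c, hact g k c l h⟩⟩

end Cfsg.Agent.Forms.Max.SU4.SympFrame
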