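import Cfsg.Agent.Lib.Forms.Max.SU4.SympFrame
import Cfsg.Agent.Lib.Forms.Max.UnitFrame.Six.Finish
import Cfsg.Agent.Lib.Forms.Max.UnitaryBase
import Cfsg.Agent.SympType4.Unit

/-!
# Normalisers of symplectic-type groups are maximal in the special unitary group of degree four
-/

set_option autoImplicit false
set_option linter.unusedSectionVars false

namespace Cfsg.Agent.Forms.Max.SU4.SympType

open Matrix Cfsg.Agent.SympType4.Scal Cfsg.Agent.Classical Cfsg.Agent.Classical.OrthForms Cfsg.Agent.Classical.Orth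
open Cfsg.Agent.Forms Cfsg.Agent.Forms.Reflections Cfsg.Agent.Forms.Max.UnitFrame
open SL4.SympType (std sgen emb emb_val emb_sgen emb_det exists_emb fvec frame)
open Cfsg.Agent.Classical.Unitary (mat)

variable {F : Type*} [Field F] [Fintype F] {p : ℕ} {R : Subgroup (H4 F)} {i : F} {a : Fin 4 → Q4 F}

theorem std_ad (hK : Fintype.card F = p ^ 2) (j : Fin 4) : SympType4.Scal.ad hK (std j : Q4 F) = std j := by
  have hneg : ∀ x : F, (-x) ^ p = -(x ^ p) := fun x => by
    rw [← HermStd.qHom_apply hK, map_neg, HermStd.qHom_apply]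
  have hp : p ≠ 0 := Unitary.q_ne_zero hK
  ext r c
  rw [SympType4.Scal.ad_apply]
  fin_cases j <;> fin_cases r <;> fin_cases c <;> simp [std, hneg, zero_pow hp]

/-- the standard form is carried to a multiple of itself -/
theorem exists_scale (hK : Fintype.card F = p ^ 2) (h2 : (2 : F) ≠ 0) (hG : Gens R a) (hRU : R ≤ Cfsg.GU 4 F p)
    {P : H4 F} (hP : ∀ j, a j * (P : Q4 F) = (P : Q4 F) * std j) :
    ∃ l : F, l ≠ 0 ∧ SympType4.Scal.ad hK (P : Q4 F) * (P : Q4 F) = l • 1 := by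
  set Hm := SympType4.Scal.ad hK (P : Q4 F) * (P : Q4 F) with hHm
  have hc : ∀ j, (std j : Q4 F) * Hm = Hm * std j := by
    intro j
    obtain ⟨g, hg, hga⟩ := hG.mem j
    have hu := (SympType4.Scal.mem_GU hK).1 (hRU hg)
    rw [hga] at hu
    have h1 : (std j : Q4 F) * Hm * std j = Hm := by
      have e : SympType4.Scal.ad hK ((P : Q4 F) * std j) * ((P : Q4 F) * std j) = Hm := by
        rw [← hP, SympType4.Scal.ad_mul, mul_assoc, ← mul_assoc _ (a j) (P : Q4 F), hu, one_mul]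
      rw [SympType4.Scal.ad_mul, std_ad] at e
      simp only [hHm, mul_assoc] at e ⊢
      exact e
    calc (std j : Q4 F) * Hm = (std j : Q4 F) * Hm * std j * std j := by
          rw [mul_assoc _ (std j) (std j), SL4.SympType.std_sq, mul_one]
      _ = Hm * std j := by rw [h1]
  have hoff : ∀ r c, r ≠ c → Hm r c = 0 := by
    intro r c hrc
    have e0 := congrFun (congrFun (hc 0) r) c
    have e2 := congrFun (congrFun (hc 2) r) c
    have h2' : (1 : F) + 1 ≠ 0 := by rwa [one_add_one_eq_two]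
    fin_cases r <;> fin_cases c <;>
      first
        | exact absurd rfl hrc
        | (simp [std, Matrix.mul_apply, Fin.sum_univ_four, eq_neg_iff_add_eq_zero, neg_eq_iff_add_eq_zero, ← two_mul,
            h2] at e0 e2 <;> assumption)
  have hdiag : ∀ r, Hm r r = Hm 0 0 := by
    intro r
    have e1 := congrFun (congrFun (hc 1) 0) 2
    have e3 := congrFun (congrFun (hc 3) 0) 1
    have e3' := congrFun (congrFun (hc 3) 2) 3
    simp [std, Matrix.mul_apply, Fin.sum_univ_four] at e1 e3 e3'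
    fin_cases r
    · rfl
    · exact e3
    · exact e1
    · exact e3'.trans e1
  have he : Hm = Hm 0 0 • 1 := by
    ext r c
    rcases eq_or_ne r c with rfl | h
    · simp [hdiag r]
    · simp [hoff r c h, h]
  refine ⟨Hm 0 0, fun h0 => ?_, he⟩
  rw [h0, zero_smul, hHm] at he
  have h := congrArg (fun X => X * ((P⁻¹ : H4 F) : Q4 F)) he
  simp only [zero_mul, mul_assoc, ← Units.val_mul, mul_inv_cancel, Units.val_one, mul_one] at h
  have h' := congrArg (SympType4.Scal.ad hK) h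
  rw [SympType4.Scal.ad_ad, SympType4.Scal.ad_zero] at h'
  exact P.ne_zero h'

/-- conjugation into standard position respects the form -/
theorem emb_mem_GU_iff (hK : Fintype.card F = p ^ 2) {P : H4 F} {l : F} (hl : l ≠ 0)
    (hP : SympType4.Scal.ad hK (P : Q4 F) * (P : Q4 F) = l • 1) (x : SpecialLinearGroup (Fin 4) F) :
    emb P x ∈ Cfsg.GU 4 F p ↔ SpecialLinearGroup.toGL x ∈ Cfsg.GU 4 F p := by
  have hxv : ((SpecialLinearGroup.toGL x : H4 F) : Q4 F) = (x : Q4 F) := rfl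
  have hPi : ((P⁻¹ : H4 F) : Q4 F) * (P : Q4 F) = 1 := by rw [← Units.val_mul, inv_mul_cancel, Units.val_one]
  have hPi' : (P : Q4 F) * ((P⁻¹ : H4 F) : Q4 F) = 1 := by rw [← Units.val_mul, mul_inv_cancel, Units.val_one]
  have e1 : SympType4.Scal.ad hK (P : Q4 F) = l • ((P⁻¹ : H4 F) : Q4 F) := by
    rw [← mul_one (SympType4.Scal.ad hK (P : Q4 F)), ← hPi', ← mul_assoc, hP, Matrix.smul_mul, one_mul]
  have e2 : SympType4.Scal.ad hK ((P⁻¹ : H4 F) : Q4 F) = l⁻¹ • (P : Q4 F) := by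
    have h := congrArg (SympType4.Scal.ad hK) hPi
    rw [SympType4.Scal.ad_mul, SympType4.Scal.ad_one, e1, Matrix.smul_mul] at h
    have h' := congrArg (fun X => l⁻¹ • ((P : Q4 F) * X)) h
    rwa [Matrix.mul_smul, ← mul_assoc, hPi', one_mul, inv_smul_smul₀ hl, mul_one] at h'
  have e : SympType4.Scal.ad hK (emb P x : Q4 F) * (emb P x : Q4 F) =
      (P : Q4 F) * (SympType4.Scal.ad hK (x : Q4 F) * (x : Q4 F)) * ((P⁻¹ : H4 F) : Q4 F) := by
    rw [emb_val, SympType4.Scal.ad_mul, SympType4.Scal.ad_mul, e1, e2]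
    simp only [Matrix.smul_mul, Matrix.mul_smul, smul_smul, inv_mul_cancel₀ hl, mul_inv_cancel₀ hl, one_smul,
      mul_assoc]
    rw [← mul_assoc ((P⁻¹ : H4 F) : Q4 F) (P : Q4 F), hPi, one_mul]
  rw [SympType4.Scal.mem_GU hK, SympType4.Scal.mem_GU hK, hxv, e]
  constructor
  · intro h
    calc SympType4.Scal.ad hK (x : Q4 F) * (x : Q4 F) = ((P⁻¹ : H4 F) : Q4 F) *
          ((P : Q4 F) * (SympType4.Scal.ad hK (x : Q4 F) * (x : Q4 F)) * ((P⁻¹ : H4 F) : Q4 F)) * (P : Q4 F) := by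
          rw [← mul_assoc, ← mul_assoc, hPi, one_mul, mul_assoc _ ((P⁻¹ : H4 F) : Q4 F), hPi, mul_one]
      _ = 1 := by rw [h, mul_one, hPi]
  · intro h
    rw [h, mul_one, hPi']

/-- maximality -/
theorem maximal (hp : p.Prime) (hK : Fintype.card F = p ^ 2) (hp4 : p % 4 = 3)
    (hRs : Cfsg.Geo.IsSymplecticTypeGroup 2 R) (hRi : Cfsg.Geo.ActsAbsolutelyIrreducibly (Cfsg.Geo.matrixSet R))
    (hRU : R ≤ Cfsg.GU 4 F p) (hR6 : Nat.card R = 64) (hRZ : Nat.card (Subgroup.center R) = 4) :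
    Cfsg.Geo.IsMaximalIn (Cfsg.GU 4 F p ⊓ Cfsg.Geo.specialLinear (Fin 4) F)
      (Cfsg.Geo.subgroupNormalizer R ⊓ (Cfsg.GU 4 F p ⊓ Cfsg.Geo.specialLinear (Fin 4) F)) := by
  classical
  haveI : Fact p.Prime := ⟨hp⟩
  have h2 : (2 : F) ≠ 0 := fun h => by
    haveI : CharP F p := charP_of_card_eq_prime_pow hK
    have := Nat.le_of_dvd two_pos ((CharP.cast_eq_zero_iff F p 2).1 (by exact_mod_cast h))
    have := hp.two_le
    omega
  obtain ⟨i, D⟩ := mkData h2 hRs hRi (by rw [hR6]; norm_num) hRZ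
  obtain ⟨a, hG⟩ := D.exists_gens
  obtain ⟨P, hP⟩ := SL4.SympType.exists_std_conj h2 hG
  obtain ⟨l, hl, hPl⟩ := exists_scale hK h2 hG hRU hP
  have hiff := emb_mem_GU_iff hK hl hPl
  have hip : i ^ p = -i := by
    obtain ⟨m, hm⟩ : ∃ m, p = 2 * (2 * m + 1) + 1 := ⟨p / 4, by omega⟩
    rw [hm, pow_succ, pow_mul, sq, D.isq, Odd.neg_one_pow ⟨m, rfl⟩, neg_one_mul]
  set embU : Cfsg.SU 4 F p →* H4 F := (emb P).comp (Cfsg.SU 4 F p).subtype with hembU
  have hembU' : ∀ y, embU y ∈ Cfsg.GU 4 F p ⊓ Cfsg.Geo.specialLinear (Fin 4) F := fun y =>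
    ⟨(hiff y.1).2 y.2, Aschbacher.mem_specialLinear.2 (emb_det P _)⟩
  have hsurj : ∀ h ∈ Cfsg.GU 4 F p ⊓ Cfsg.Geo.specialLinear (Fin 4) F, ∃ y, embU y = h := fun h hh => by
    obtain ⟨x, hx⟩ := exists_emb P (Aschbacher.mem_specialLinear.1 hh.2)
    exact ⟨⟨x, (hiff x).1 (hx ▸ hh.1)⟩, hx⟩
  refine isMaximalIn_of inf_le_right (fun hle => ?_) fun N hN hNK g hgN hg => ?_
  · obtain ⟨a₀, ha₀⟩ := Unitary.exists_norm hK (d := (2 : F)) (by
      rw [← HermStd.qHom_apply hK, map_ofNat])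
    obtain ⟨b₀, hb₀⟩ := Unitary.exists_norm hK (d := (-1 : F)) (by
      rw [← HermStd.qHom_apply hK, map_neg, map_one])
    have hp0 : p ≠ 0 := hp.ne_zero
    have ha0 : a₀ ≠ 0 := fun h => h2 (by rw [← ha₀, h]; simp [zero_pow hp0])
    have hb0 : b₀ ≠ 0 := fun h => one_ne_zero (α := F) (by
      rw [h, mul_zero, eq_comm, neg_eq_zero] at hb₀; exact hb₀)
    let T : Q4 F := !![a₀, b₀, 0, 0; -b₀ ^ p, a₀ ^ p, 0, 0; 0, 0, 1, 0; 0, 0, 0, 1]
    have hTd : T.det = 1 := by
      simp [T, Matrix.det_succ_row_zero, Fin.sum_univ_succ, Fin.succAbove]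
      linear_combination ha₀ + hb₀
    let t : SpecialLinearGroup (Fin 4) F := ⟨T, hTd⟩
    have hneg : ∀ x : F, (-x) ^ p = -(x ^ p) := fun x => by
      rw [← HermStd.qHom_apply hK, map_neg, HermStd.qHom_apply]
    have hTad : SympType4.Scal.ad hK T =
        !![a₀ ^ p, -b₀, 0, 0; b₀ ^ p, a₀, 0, 0; 0, 0, 1, 0; 0, 0, 0, 1] := by
      ext r c
      rw [SympType4.Scal.ad_apply]
      fin_cases r <;> fin_cases c <;> simp [T, hneg, zero_pow hp0, HermStd.pow_q_q hK]
    have hTU : SpecialLinearGroup.toGL t ∈ Cfsg.GU 4 F p := by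
      refine (SympType4.Scal.mem_GU hK).2 ?_
      show SympType4.Scal.ad hK T * T = 1
      rw [hTad]
      ext r c
      fin_cases r <;> fin_cases c <;> simp [T, Matrix.mul_apply, Fin.sum_univ_four] <;>
        first | ring1 | linear_combination ha₀ + hb₀
    have hmem := hle (hembU' ⟨t, hTU⟩)
    have hs2 : emb P (sgen 2) ∈ R := by
      obtain ⟨w, hw, hwe⟩ := hG.mem 2
      rwa [show emb P (sgen 2) = w from Units.ext ((emb_sgen hP 2).trans hwe.symm)]
    obtain ⟨c, b, -, hb⟩ := hG.cover D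
      ⟨_, (Subgroup.mem_normalizer_iff.1 hmem.1 _).1 hs2, rfl⟩
    set u : Q4 F := !![a₀ ^ p, -b₀, 0, 0; b₀ ^ p, a₀, 0, 0; 0, 0, 1, 0; 0, 0, 0, 1] with hu
    have hinv : ((t⁻¹ : SpecialLinearGroup (Fin 4) F) : Q4 F) = u := by
      have h1 : (t : Q4 F) * u = 1 := by
        ext r k
        fin_cases r <;> fin_cases k <;> simp [t, T, hu, Matrix.mul_apply, Fin.sum_univ_four] <;>
          first | ring1 | linear_combination ha₀ + hb₀
      calc ((t⁻¹ : SpecialLinearGroup (Fin 4) F) : Q4 F)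
          = ((t⁻¹ : SpecialLinearGroup (Fin 4) F) : Q4 F) * ((t : Q4 F) * u) := by rw [h1, mul_one]
        _ = ((t⁻¹ * t : SpecialLinearGroup (Fin 4) F) : Q4 F) * u := by
            rw [← mul_assoc]; rfl
        _ = u := by
            rw [inv_mul_cancel]; exact one_mul u
    change ((emb P t * emb P (sgen 2) * (emb P t)⁻¹ : H4 F) : Q4 F) = _ at hb
    rw [← map_inv, ← map_mul, ← map_mul, emb_val] at hb
    have h1 : ((t * sgen 2 * t⁻¹ : SpecialLinearGroup (Fin 4) F) : Q4 F) = c • mono std b := by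
      have h := congrArg (fun X => ((P⁻¹ : H4 F) : Q4 F) * X * (P : Q4 F)) hb
      simp only [Matrix.mul_smul, Matrix.smul_mul] at h
      rw [show ((P⁻¹ : H4 F) : Q4 F) * mono a b * (P : Q4 F) = mono std b by
        rw [mul_assoc, SL4.SympType.mono_transfer hP, ← mul_assoc, ← Units.val_mul, inv_mul_cancel, Units.val_one,
          one_mul],
        ← mul_assoc, ← mul_assoc, ← Units.val_mul, inv_mul_cancel, Units.val_one, one_mul, mul_assoc,
        ← Units.val_mul, inv_mul_cancel, Units.val_one, mul_one] at h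
      exact h
    change (t : Q4 F) * (sgen (F := F) 2 : Q4 F) * ((t⁻¹ : SpecialLinearGroup (Fin 4) F) : Q4 F) = _ at h1
    rw [hinv] at h1
    have e0 := congrFun (congrFun h1 2) 2
    have e1 := congrFun (congrFun h1 0) 1
    have hne : a₀ * b₀ ≠ 0 := mul_ne_zero ha0 hb0
    obtain ⟨b0, b1, b2, b3⟩ := b
    cases b0 <;> cases b1 <;> cases b2 <;> cases b3 <;>
      simp [t, T, hu, sgen, mono, std, Matrix.mul_apply, Fin.sum_univ_four] at e0 e1 <;>
      exact hne (mul_left_cancel₀ h2 (by linear_combination -e1))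
  · obtain ⟨φ, e, hval, horth, hspan, hrange, htr⟩ := SympFrame.exists_hom hK hp4 D.isq hip
    let Q := minQ (ZMod p) 2 0 1
    have h2' : (2 : ZMod p) ≠ 0 := fun h => by
      have := Nat.le_of_dvd two_pos ((ZMod.natCast_eq_zero_iff 2 p).1 (by exact_mod_cast h))
      have := hp.two_le
      omega
    let Sp : Setup (PlusStd.plusQ F 3) 6 :=
      { nd := PlusStd.plusQ_nondeg F 3
        two := h2
        five := by norm_num
        five' := by simp
        c := 1
        c_ne := one_ne_zero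
        e := frame i
        value := SL4.SympType.frame_value D.isq
        orth := SL4.SympType.frame_orth
        span := SL4.SympType.frame_span h2 D.isq
        M := Cfsg.Omega F ⇑(PlusStd.plusQ F 3)
        mono_mem := fun g hg _ => hg }
    have hlift : ∀ y : Cfsg.SU 4 F p, (∀ k, ∃ l, ∃ c : ZMod p, act (φ y) (e k) = c • e l) → embU y ∈ N := by
      intro y hy
      refine hN ⟨SL4.SympType.normalizer_of_mon hP D hG Sp rfl fun k => ?_, hembU' y⟩
      obtain ⟨l, c, hc⟩ := hy k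
      exact ⟨l, htr y k l c hc⟩
    let M' : Subgroup (Cfsg.isometryGroup (ZMod p) ⇑Q) := (N.comap embU).map φ
    have hM' : M' ≤ Cfsg.Omega (ZMod p) ⇑Q := by
      rw [← hrange]; exact Subgroup.map_le_range _ _
    let S : Setup Q 6 :=
      { nd := minQ_nondeg 2 (SympFrame.anisotropic hp4)
        two := h2'
        five := by norm_num
        five' := by simp
        c := 1
        c_ne := one_ne_zero
        e := e
        value := hval
        orth := horth
        span := hspan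
        M := M'
        mono_mem := fun h hh hm => by
          rw [← hrange] at hh
          obtain ⟨y, rfl⟩ := hh
          exact ⟨y, hlift y hm, rfl⟩ }
    obtain ⟨x, hx⟩ := hsurj g (hNK hgN)
    have hgx : φ x ∈ S.M := ⟨x, show embU x ∈ N by rw [hx]; exact hgN, rfl⟩
    have hnm : ¬ S.Mon (φ x) := fun h => hg ⟨by
      rw [← hx]
      refine SL4.SympType.normalizer_of_mon hP D hG Sp rfl fun k => ?_
      obtain ⟨l, c, hc⟩ := h k
      exact ⟨l, htr x k l c hc⟩, hNK hgN⟩
    have hall := S.omega_le_six rfl (by rw [ZMod.card]; exact hp) hM' hgx hnm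
    intro h hh
    obtain ⟨y, rfl⟩ := hsurj h hh
    obtain ⟨z, hz, hzy⟩ := hall (show φ y ∈ Cfsg.Omega (ZMod p) ⇑Q by rw [← hrange]; exact ⟨y, rfl⟩)
    have hyz : embU (y * z⁻¹) ∈ N := hlift _ fun k => ⟨k, 1, by
      rw [map_mul, map_inv, hzy, mul_inv_cancel, act_one, one_smul]⟩
    have := mul_mem hyz (show embU z ∈ N from hz)
    rwa [← map_mul, inv_mul_cancel_right] at this

end Cfsg.Agent.Forms.Max.SU4.SympType
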